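import Cfsg.Agent.Lib.Bender.End.Idem
import Cfsg.Agent.Lib.Char.TITransfer
import Cfsg.Agent.Lib.Invol.Basic

/-!
# Congruences for the scalar of a sum of conjugate idempotents

`IdemFun H c`: `c` is an idempotent of the group algebra of `H`, invariant under `H`, extended by
zero. `scalarOf H c χ` is the scalar by which the sum of its conjugates over `G ⧸ H` acts in the
representation of `χ`. For an element of `H` of even order whose involution fixes only the point
`H`, the part `proj c χ` vanishes unless this scalar is `1` modulo `2`.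
-/

set_option autoImplicit false
set_option linter.unusedSectionVars false
set_option linter.style.haveILetI false

namespace CfsgLib.Bender.End

open Matrix Cfsg CfsgLib.Char

universe u

variable {G : Type u} [Group G] [Fintype G]

/-- An idempotent of the group algebra of `H`, invariant under `H`, extended by zero. -/
structure IdemFun (H : Subgroup G) (c : G → ℂ) : Prop where
  supp : ∀ g, g ∉ H → c g = 0
  inv : ∀ h ∈ H, ∀ g, c (h * g * h⁻¹) = c g
  idem : ∀ g, ∑ a : G, c a * c (a⁻¹ * g) = c g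

/-- The function `x ↦ f (e x)` for the element `e = ∑ c a · a`. -/
noncomputable def proj (c f : G → ℂ) (x : G) : ℂ := ∑ a : G, c a * f (a * x)

/-- The scalar of the sum of the conjugates of `∑ c a · a` on the representation of `χ`. -/
noncomputable def scalarOf (H : Subgroup G) (c χ : G → ℂ) : ℂ := (H.index : ℂ) * proj c χ 1 / χ 1

open Classical in
theorem IdemFun.compl {H : Subgroup G} {c : G → ℂ} (h : IdemFun H c) :
    IdemFun H (fun g => (if g = 1 then 1 else 0) - c g) := by
  refine ⟨fun g hg => ?_, fun k hk g => ?_, fun g => ?_⟩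
  · have : g ≠ 1 := fun e => hg (e ▸ H.one_mem)
    simp [this, h.supp g hg]
  · have e : k * g * k⁻¹ = 1 ↔ g = 1 := by
      rw [mul_inv_eq_one]
      exact mul_eq_left
    simp [e, h.inv k hk g]
  · simp only [sub_mul, mul_sub, Finset.sum_sub_distrib, ite_mul, one_mul, zero_mul]
    rw [h.idem, Finset.sum_ite_eq', Finset.sum_ite_eq']
    simp only [Finset.mem_univ, if_true, inv_one, one_mul, mul_ite, mul_one, mul_zero]
    rw [Finset.sum_eq_single g]
    · simp
    · intro b _ hb
      rw [if_neg]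
      exact fun e => hb (inv_mul_eq_one.1 e)
    · simp

theorem proj_compl {c f : G → ℂ} [DecidableEq G] (x : G) :
    proj (fun g => (if g = 1 then 1 else 0) - c g) f x = f x - proj c f x := by
  simp [proj, sub_mul, Finset.sum_sub_distrib]

variable {A : ValuationSubring ℂ} {d : ℕ}

/-- The matrix of an `A`-combination of group elements. -/
noncomputable def opOf (σ : G →* Matrix (Fin d) (Fin d) A) (c : G → A) :
    Matrix (Fin d) (Fin d) A := ∑ g : G, c g • σ g

variable {σ : G →* Matrix (Fin d) (Fin d) A} {H : Subgroup G} {c : G → ℂ}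

theorem opOf_idem (hc : IdemFun H c) (hcA : ∀ g, c g ∈ A) :
    opOf σ (fun g => ⟨c g, hcA g⟩) * opOf σ (fun g => ⟨c g, hcA g⟩) =
      opOf σ (fun g => ⟨c g, hcA g⟩) := by
  simp only [opOf, Finset.sum_mul_sum, smul_mul_assoc, mul_smul_comm, smul_smul, ← map_mul]
  calc ∑ i, ∑ j, ((⟨c j, hcA j⟩ : A) * ⟨c i, hcA i⟩) • σ (i * j)
      = ∑ i, ∑ g, ((⟨c i, hcA i⟩ : A) * ⟨c (i⁻¹ * g), hcA _⟩) • σ g := by
        refine Finset.sum_congr rfl fun i _ => Fintype.sum_equiv (Equiv.mulLeft i) _ _ fun j => ?_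
        simp [mul_comm]
    _ = _ := by
        rw [Finset.sum_comm]
        refine Finset.sum_congr rfl fun g _ => ?_
        rw [← Finset.sum_smul]
        congr 1
        refine Subtype.ext ?_
        simpa using hc.idem g

theorem opOf_comm (hc : IdemFun H c) (hcA : ∀ g, c g ∈ A) {h : G} (hh : h ∈ H) :
    σ h * opOf σ (fun g => ⟨c g, hcA g⟩) = opOf σ (fun g => ⟨c g, hcA g⟩) * σ h := by
  simp only [opOf, Finset.mul_sum, Finset.sum_mul, mul_smul_comm, smul_mul_assoc, ← map_mul]
  refine Fintype.sum_equiv (MulAut.conj h).toEquiv _ _ fun g => ?_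
  have e : (⟨c (h * g * h⁻¹), hcA _⟩ : A) = ⟨c g, hcA g⟩ := Subtype.ext (hc.inv h hh g)
  simp only [MulEquiv.toEquiv_eq_coe, EquivLike.coe_coe, MulAut.conj_apply, e]
  rw [show h * g * h⁻¹ * h = h * g by group]

theorem trace_opOf_mul (hcA : ∀ g, c g ∈ A) {χ : G → ℂ}
    (hσ : ∀ g, Matrix.trace ((σ g).map A.subtype) = χ g) (x : G) :
    A.subtype (Matrix.trace (opOf σ (fun g => ⟨c g, hcA g⟩) * σ x)) = proj c χ x := by
  simp only [opOf, Finset.sum_mul, smul_mul_assoc, ← map_mul, Matrix.trace_sum, Matrix.trace_smul,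
    map_sum, smul_eq_mul, map_mul, proj]
  refine Finset.sum_congr rfl fun g _ => ?_
  rw [← hσ, ← map_mul σ]
  simp [Matrix.trace, map_sum]

/-- The conjugate of `∑ c a · a` at a point. -/
noncomputable def conjOp (σ : G →* Matrix (Fin d) (Fin d) A) (P : Matrix (Fin d) (Fin d) A)
    (q : G ⧸ H) : Matrix (Fin d) (Fin d) A := σ q.out * P * σ q.out⁻¹

theorem conjOp_smul {P : Matrix (Fin d) (Fin d) A} (hP : ∀ h ∈ H, σ h * P = P * σ h) (g : G)
    (q : G ⧸ H) : conjOp σ P (g • q) = σ g * conjOp σ P q * σ g⁻¹ := by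
  have e : g • q = ((g * q.out : G) : G ⧸ H) := by
    conv_lhs => rw [← QuotientGroup.out_eq' q]
    rfl
  obtain ⟨h, hh⟩ := QuotientGroup.mk_out_eq_mul H (g * q.out)
  simp only [conjOp]
  rw [e, hh, _root_.mul_inv_rev, _root_.mul_inv_rev]
  simp only [map_mul]
  calc σ g * σ q.out * σ (h : G) * P * (σ (h : G)⁻¹ * (σ q.out⁻¹ * σ g⁻¹))
      = σ g * σ q.out * ((σ (h : G) * P) * σ (h : G)⁻¹) * (σ q.out⁻¹ * σ g⁻¹) := by
        simp only [mul_assoc]
    _ = _ := by
        rw [hP h h.2, mul_assoc P, ← map_mul σ (h : G), mul_inv_cancel, map_one, mul_one]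
        simp only [mul_assoc]

theorem conjOp_base {P : Matrix (Fin d) (Fin d) A} (hP : ∀ h ∈ H, σ h * P = P * σ h) :
    conjOp σ P ((1 : G) : G ⧸ H) = P := by
  obtain ⟨h, hh⟩ := QuotientGroup.mk_out_eq_mul H (1 : G)
  rw [conjOp, hh, one_mul, hP h h.2, mul_assoc, ← map_mul, mul_inv_cancel, map_one, mul_one]

variable {χ : G → ℂ}

/-- The sum of the conjugates is the scalar `scalarOf H c χ`, which lies in `A`. -/
theorem sum_conjOp_eq (hχ : IsIrrCharacter G χ)
    (hσ : ∀ g, Matrix.trace ((σ g).map A.subtype) = χ g) (hc : IdemFun H c) (hcA : ∀ g, c g ∈ A)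
    [Fintype (G ⧸ H)] :
    ∃ w : A, (w : ℂ) = scalarOf H c χ ∧
      ∑ q : G ⧸ H, conjOp σ (opOf σ (fun g => ⟨c g, hcA g⟩)) q =
        w • (1 : Matrix (Fin d) (Fin d) A) := by
  classical
  set P := opOf σ (fun g => ⟨c g, hcA g⟩) with hP
  set K := ∑ q : G ⧸ H, conjOp σ P q with hK
  let s : G →* Matrix (Fin d) (Fin d) ℂ := A.subtype.mapMatrix.toMonoidHom.comp σ
  have hone : ∀ g, σ g * σ g⁻¹ = 1 := fun g => by rw [← map_mul, mul_inv_cancel, map_one]
  have hKc : ∀ g, σ g * K = K * σ g := by
    intro g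
    have h1 : σ g * K * σ g⁻¹ = K := by
      rw [hK, Finset.mul_sum, Finset.sum_mul]
      exact Fintype.sum_equiv (MulAction.toPerm g) _ _ fun q =>
        (conjOp_smul (fun h hh => opOf_comm hc hcA hh) g q).symm
    calc σ g * K = σ g * K * σ g⁻¹ * σ g := by
          rw [mul_assoc _ (σ g⁻¹), ← map_mul, inv_mul_cancel, map_one, mul_one]
      _ = K * σ g := by rw [h1]
  have htr : χ = fun g => Matrix.trace (s g) := funext fun g => (hσ g).symm
  have hdim : Module.finrank ℂ (CfsgLib.Char.TITransfer.commutant s ⊤) = 1 := by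
    haveI : Fintype (⊤ : Subgroup G) := Fintype.ofFinite _
    have h1 := CfsgLib.Char.TITransfer.classInner_eq_finrank_commutant s ⊤
    have h2 : classInner (fun h : (⊤ : Subgroup G) => Matrix.trace (s h))
        (fun h : (⊤ : Subgroup G) => Matrix.trace (s h)) = classInner χ χ := by
      rw [htr]
      simp only [classInner, Subgroup.card_top]
      congr 1
      exact Fintype.sum_equiv Subgroup.topEquiv.toEquiv _ _ fun g => rfl
    rw [h2, show classInner χ χ = 1 from classInner_irr_self ⟨χ, hχ⟩] at h1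
    exact_mod_cast h1.symm
  have hd : χ 1 = (d : ℂ) := by rw [← hσ 1, map_one, Matrix.map_one _ (map_zero _) (map_one _)]; simp
  have hd0 : d ≠ 0 := fun e => irr_one_ne_zero ⟨χ, hχ⟩ (by show χ 1 = 0; rw [hd, e, Nat.cast_zero])
  have hKmem : K.map A.subtype ∈ CfsgLib.Char.TITransfer.commutant s ⊤ := fun g _ => by
    show A.subtype.mapMatrix (σ g) * A.subtype.mapMatrix K = A.subtype.mapMatrix K * A.subtype.mapMatrix (σ g)
    rw [← map_mul, ← map_mul, hKc]
  have h1mem : (1 : Matrix (Fin d) (Fin d) ℂ) ∈ CfsgLib.Char.TITransfer.commutant s ⊤ :=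
    fun g _ => by simp
  haveI : Nonempty (Fin d) := ⟨⟨0, Nat.pos_of_ne_zero hd0⟩⟩
  obtain ⟨z, hz⟩ := (finrank_eq_one_iff_of_nonzero' (⟨1, h1mem⟩ :
    CfsgLib.Char.TITransfer.commutant s ⊤) (fun e => one_ne_zero (congrArg Subtype.val e))).1 hdim
    ⟨_, hKmem⟩
  have hz' : K.map A.subtype = z • (1 : Matrix (Fin d) (Fin d) ℂ) := (congrArg Subtype.val hz).symm
  set i0 : Fin d := ⟨0, Nat.pos_of_ne_zero hd0⟩
  have hzA : z = ((K i0 i0 : A) : ℂ) := by
    have := congrFun (congrFun hz' i0) i0
    simpa using this.symm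
  refine ⟨K i0 i0, ?_, Matrix.map_injective (f := A.subtype) Subtype.val_injective ?_⟩
  · have h1 : A.subtype (Matrix.trace K) = (H.index : ℂ) * proj c χ 1 := by
      rw [hK, Matrix.trace_sum, map_sum]
      have h2 : ∀ q : G ⧸ H, A.subtype (Matrix.trace (conjOp σ P q)) = proj c χ 1 := fun q => by
        rw [conjOp, Matrix.trace_mul_cycle, ← map_mul, inv_mul_cancel, map_one, one_mul,
          ← trace_opOf_mul hcA hσ 1, map_one, mul_one]
      rw [Finset.sum_congr rfl fun q _ => h2 q, Finset.sum_const, Finset.card_univ, nsmul_eq_mul,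
        ← Nat.card_eq_fintype_card, Subgroup.index]
    have h3 : A.subtype (Matrix.trace K) = (d : ℂ) * z := by
      have e : A.subtype (Matrix.trace K) = Matrix.trace (K.map A.subtype) := by
        simp [Matrix.trace, map_sum]
      rw [e, hz', Matrix.trace_smul, Matrix.trace_one, Fintype.card_fin, smul_eq_mul, mul_comm]
    rw [scalarOf, ← h1, h3, hd, ← hzA]
    field_simp
  · show K.map A.subtype = _
    rw [hz', hzA]
    ext i j
    simp only [Matrix.map_apply, Matrix.smul_apply, Matrix.one_apply, smul_eq_mul, mul_ite, mul_one,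
      mul_zero]
    split_ifs <;> simp

/-- The scalar lies in every valuation ring containing the coefficients. -/
theorem scalarOf_mem (hχ : IsIrrCharacter G χ) (hc : IdemFun H c) (hcA : ∀ g, c g ∈ A) :
    scalarOf H c χ ∈ A := by
  obtain ⟨n, ρ, hρ, rfl⟩ := hχ
  obtain ⟨σ, hσ⟩ := CfsgLib.Block.exists_integral_form A ρ
  haveI := Fintype.ofFinite (G ⧸ H)
  obtain ⟨w, hw, -⟩ := sum_conjOp_eq ⟨n, ρ, hρ, rfl⟩ hσ hc hcA
  exact hw ▸ w.2

/-- The key congruence. -/
theorem proj_eq_zero (hχ : IsIrrCharacter G χ) (hc : IdemFun H c) (hcA : ∀ g, c g ∈ A)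
    (h2 : (2 : A) ∈ IsLocalRing.maximalIdeal A) {x : G} (hxH : x ∈ H) (hxe : Even (orderOf x))
    (hfix : ∀ q : G ⧸ H, x ^ (orderOf x / 2) • q = q → q = ((1 : G) : G ⧸ H))
    (hω : ∀ w : A, (w : ℂ) = scalarOf H c χ → IsUnit (w - 1)) :
    proj c χ x = 0 := by
  classical
  have hχ' := hχ
  obtain ⟨n, ρ, hρ, rfl⟩ := hχ
  obtain ⟨σ, hσ⟩ := CfsgLib.Block.exists_integral_form A ρ
  haveI := Fintype.ofFinite (G ⧸ H)
  obtain ⟨w, hw, hK⟩ := sum_conjOp_eq hχ' hσ hc hcA
  set P := opOf σ (fun g => ⟨c g, hcA g⟩) with hPdef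
  have hK' : ∑ q : G ⧸ H, conjOp σ P q = w • 1 := hK
  obtain ⟨u, hu⟩ := hω w hw
  set N := orderOf x with hNdef
  haveI : NeZero N := ⟨(orderOf_pos x).ne'⟩
  -- roots of unity
  obtain ⟨ζ, hζ⟩ : ∃ ζ : A, IsPrimitiveRoot ζ N := by
    have h := Complex.isPrimitiveRoot_exp N (NeZero.ne N)
    set ζ₀ := Complex.exp (2 * Real.pi * Complex.I / N)
    have hmem : ζ₀ ∈ A := by
      by_contra hA
      rcases A.mem_or_inv_mem ζ₀ with h1 | h1
      · exact hA h1
      · refine hA ?_
        have : ζ₀ = ζ₀⁻¹ ^ (N - 1) := by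
          rw [inv_pow]
          refine eq_inv_of_mul_eq_one_left ?_
          rw [← pow_succ', Nat.sub_add_cancel (Nat.pos_of_ne_zero (NeZero.ne N)), h.pow_eq_one]
        rw [this]
        exact pow_mem h1 _
    exact ⟨⟨ζ₀, hmem⟩, IsPrimitiveRoot.of_map_of_injective (f := A.subtype) h Subtype.val_injective⟩
  let f : ZMod N → Matrix (Fin n) (Fin n) A := fun a => σ (x ^ a.val)
  have hxadd : ∀ a b : ZMod N, x ^ (a + b).val = x ^ a.val * x ^ b.val := fun a b => by
    rw [ZMod.val_add, ← pow_add]; exact pow_mod_orderOf x _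
  have hadd : ∀ a b, f (a + b) = f a * f b := fun a b => by
    show σ (x ^ (a + b).val) = σ (x ^ a.val) * σ (x ^ b.val)
    rw [hxadd, map_mul]
  have hzero : f 0 = 1 := by simp [f]
  have hPP : P * P = P := opOf_idem hc hcA
  have hPc : ∀ h ∈ H, σ h * P = P * σ h := fun h hh => opOf_comm hc hcA hh
  have hcomm : ∀ a, f a * P = P * f a := fun a => hPc _ (pow_mem hxH _)
  -- orbits of `x`
  let act : ZMod N → G ⧸ H → G ⧸ H := fun a q => x ^ a.val • q
  have hact0 : ∀ q, act 0 q = q := fun q => by simp [act]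
  have hactadd : ∀ a b q, act (a + b) q = act a (act b q) := fun a b q => by
    simp only [act, hxadd, mul_smul]
  let rel : Setoid (G ⧸ H) :=
    ⟨fun q q' => ∃ a, act a q = q', ⟨fun q => ⟨0, hact0 q⟩,
      fun {q q'} ⟨a, ha⟩ => ⟨-a, by rw [← ha, ← hactadd, neg_add_cancel, hact0]⟩,
      fun {q q' q''} ⟨a, ha⟩ ⟨b, hb⟩ => ⟨b + a, by rw [hactadd, ha, hb]⟩⟩⟩
  let rep : G ⧸ H → G ⧸ H := fun q => (Quotient.mk rel q).out
  have hrep : ∀ q, ∃ a, act a q = rep q := fun q => Quotient.exact ((Quotient.mk rel q).out_eq).symm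
  have hrep' : ∀ a q, rep (act a q) = rep q := fun a q =>
    congrArg Quotient.out (Quotient.sound (⟨-a, by rw [← hactadd, neg_add_cancel, hact0]⟩) :
      Quotient.mk rel (act a q) = Quotient.mk rel q)
  let st : G ⧸ H → ℕ := fun q => (Finset.univ.filter fun a => act a q = q).card
  set b : G ⧸ H := ((1 : G) : G ⧸ H) with hb
  have hxb : ∀ a, act a b = b := fun a => by
    show x ^ a.val • ((1 : G) : G ⧸ H) = ((1 : G) : G ⧸ H)
    rw [MulAction.Quotient.smul_mk, QuotientGroup.eq, smul_eq_mul, mul_one, mul_one, inv_mem_iff]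
    exact pow_mem hxH _
  have hodd : ∀ q, q ≠ b → Odd (st q) := by
    intro q hq
    by_contra he
    rw [Nat.not_odd_iff_even] at he
    let S : AddSubgroup (ZMod N) :=
      { carrier := {a | act a q = q}
        zero_mem' := hact0 q
        add_mem' := fun {a b} ha hb => by
          show act (a + b) q = q
          rw [hactadd, show act b q = q from hb, show act a q = q from ha]
        neg_mem' := fun {a} ha => by
          show act (-a) q = q
          conv_lhs => rw [← show act a q = q from ha]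
          rw [← hactadd, neg_add_cancel, hact0] }
    have hcard : Nat.card S = st q := by
      show Nat.card {a // act a q = q} = _
      rw [Nat.card_eq_fintype_card, Fintype.card_subtype]
    obtain ⟨a, ha⟩ := exists_prime_addOrderOf_dvd_card' 2 (G := S)
      (by rw [hcard]; exact even_iff_two_dvd.1 he)
    have ha2 : (a : ZMod N) + a = 0 := by
      have := addOrderOf_nsmul_eq_zero a
      rw [ha, two_nsmul] at this
      exact congrArg Subtype.val this
    have ha0 : (a : ZMod N) ≠ 0 := fun e => by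
      rw [Subtype.ext e (a2 := (0 : S)), addOrderOf_zero] at ha
      exact absurd ha (by norm_num)
    have hv : (a : ZMod N).val = N / 2 := by
      have h1 := congrArg ZMod.val ha2
      rw [ZMod.val_add, ZMod.val_zero] at h1
      have h2 := ZMod.val_lt (a : ZMod N)
      have h3 : (a : ZMod N).val ≠ 0 := fun e => ha0 ((ZMod.val_eq_zero _).1 e)
      obtain ⟨k, hk⟩ := Nat.dvd_of_mod_eq_zero h1
      rcases k with _ | _ | k
      · omega
      · omega
      · nlinarith
    refine hq (hfix q ?_)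
    rw [← hv]
    exact a.2
  let γ : G ⧸ H → A := fun q => if q ≠ b ∧ rep q = q then Ring.inverse (st q : A) else 0
  have hunit : ∀ q, q ≠ b → IsUnit (st q : A) := fun q hq => by
    obtain ⟨k, hk⟩ := hodd q hq
    refine IsLocalRing.notMem_maximalIdeal.1 fun hm => ?_
    rw [hk] at hm
    push_cast at hm
    have := Ideal.sub_mem _ hm (Ideal.mul_mem_right (k : A) _ h2)
    rw [add_sub_cancel_left] at this
    exact (IsLocalRing.maximalIdeal.isMaximal A).ne_top ((Ideal.eq_top_iff_one _).2 this)
  have hcount : ∀ q', ∑ a, γ (act a q') = if q' = b then 0 else 1 := by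
    intro q'
    split_ifs with hq'
    · refine Finset.sum_eq_zero fun a _ => ?_
      simp [γ, hq', hxb]
    · obtain ⟨a0, ha0⟩ := hrep q'
      set r := rep q' with hr
      have hrb : r ≠ b := fun e => hq' (by
        calc q' = act (-a0) (act a0 q') := by rw [← hactadd, neg_add_cancel, hact0]
          _ = b := by rw [ha0, e, hxb])
      have hterm : ∀ a, γ (act a q') = if act a q' = r then Ring.inverse (st r : A) else 0 := by
        intro a
        by_cases h : act a q' = r
        · rw [if_pos h, h]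
          simp only [γ]
          have hrr : rep r = r := by
            calc rep r = rep (act a0 q') := by rw [ha0]
              _ = r := hrep' a0 q'
          rw [if_pos ⟨hrb, hrr⟩]
        · rw [if_neg h]
          simp only [γ]
          rw [if_neg]
          rintro ⟨-, h'⟩
          exact h (h'.symm.trans (hrep' a q'))
      rw [Finset.sum_congr rfl fun a _ => hterm a, ← Finset.sum_filter, Finset.sum_const, nsmul_eq_mul]
      have hc' : (Finset.univ.filter fun a => act a q' = r).card = st r := by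
        refine Finset.card_equiv (Equiv.subRight a0) fun a => ?_
        simp only [Finset.mem_filter, Finset.mem_univ, true_and, Equiv.subRight_apply]
        have e : act (a - a0) r = act a q' := by
          rw [← ha0, ← hactadd, sub_add_cancel]
        rw [e]
      rw [hc', Ring.mul_inverse_cancel _ (hunit r hrb)]
  let W : Matrix (Fin n) (Fin n) A := ∑ q : G ⧸ H, γ q • (P * conjOp σ P q * P)
  have hconj : ∀ a q, f a * (P * conjOp σ P q * P) * f (-a) = P * conjOp σ P (act a q) * P := by
    intro a q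
    have h1 : x ^ (-a).val = (x ^ a.val)⁻¹ := by
      refine eq_inv_of_mul_eq_one_left ?_
      rw [← hxadd, neg_add_cancel, ZMod.val_zero, pow_zero]
    have e : conjOp σ P (act a q) = f a * conjOp σ P q * f (-a) := by
      show conjOp σ P (x ^ a.val • q) = σ (x ^ a.val) * conjOp σ P q * σ (x ^ (-a).val)
      rw [conjOp_smul hPc, h1]
    rw [e]
    calc f a * (P * conjOp σ P q * P) * f (-a)
        = (f a * P) * conjOp σ P q * (P * f (-a)) := by simp only [mul_assoc]
      _ = (P * f a) * conjOp σ P q * (f (-a) * P) := by rw [hcomm, hcomm]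
      _ = _ := by simp only [mul_assoc]
  have hsum : ∑ a, f a * W * f (-a) = (w - 1) • P := by
    simp only [W, Finset.mul_sum, Finset.sum_mul, mul_smul_comm, smul_mul_assoc, hconj]
    have h1 : ∀ a : ZMod N, ∑ q, γ q • (P * conjOp σ P (act a q) * P) =
        ∑ q', γ (act (-a) q') • (P * conjOp σ P q' * P) := fun a => by
      refine Fintype.sum_equiv (MulAction.toPerm (x ^ a.val)) _ _ fun q => ?_
      show _ = γ (act (-a) (act a q)) • (P * conjOp σ P (act a q) * P)
      rw [← hactadd, neg_add_cancel, hact0]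
    rw [Finset.sum_congr rfl fun a _ => h1 a, Finset.sum_comm]
    simp only [← Finset.sum_smul]
    have h3 : ∀ q' : G ⧸ H, (∑ a : ZMod N, γ (act (-a) q')) = if q' = b then 0 else 1 := fun q' => by
      rw [← hcount q']
      exact Fintype.sum_equiv (Equiv.neg _) _ _ fun a => rfl
    simp only [h3, ite_smul, zero_smul, one_smul]
    rw [Finset.sum_ite, Finset.sum_const_zero, zero_add, ← Finset.sum_mul, ← Finset.mul_sum,
      Finset.filter_ne', Finset.sum_erase_eq_sub (Finset.mem_univ b), hK', conjOp_base hPc,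
      mul_sub, mul_smul_comm, mul_one, hPP, sub_mul, smul_mul_assoc, hPP, sub_smul, one_smul]
  have hWP : W * P = W := by
    simp only [W, Finset.sum_mul, smul_mul_assoc, mul_assoc, hPP]
  haveI : IsLocalRing A.toSubring := inferInstanceAs (IsLocalRing A)
  have hz := trace_eq_zero (R := A.toSubring) (K := ℂ) hxe hζ h2 (f := f) hadd hzero (P := P)
    (w := (↑u⁻¹ : A) • W) hPP hcomm (by rw [smul_mul_assoc, hWP]) (by
      simp only [mul_smul_comm, smul_mul_assoc, ← Finset.smul_sum, hsum, smul_smul, ← hu,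
        Units.inv_mul, one_smul])
  have hf1 : f 1 = σ x := by
    show σ (x ^ (1 : ZMod N).val) = σ x
    obtain ⟨k, hk⟩ := hxe
    haveI : Fact (1 < N) := ⟨by have := orderOf_pos x; omega⟩
    rw [ZMod.val_one, pow_one]
  rw [hf1] at hz
  have := trace_opOf_mul (σ := σ) hcA hσ x
  rw [← hPdef] at this
  rw [← this]
  exact (congrArg A.subtype hz).trans (map_zero _)

end CfsgLib.Bender.End
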