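import Cfsg.Agent.Lib.Bender.End.Valuation

/-!
# The contraction at a prime dividing the number of involutions
-/

set_option autoImplicit false

namespace CfsgLib.Bender.End

variable {K L : Type*} [Fintype K]

theorem contraction {A : ValuationSubring ℂ} {r m : ℕ} (hr : r.Prime)
    (hrA : (r : A) ∈ IsLocalRing.maximalIdeal A) (hrm : r ∣ m)
    (R : K → L → ℂ) (hR : ∀ k l, ∃ n : ℕ, R k l = n) (d : K → ℕ) (d' : L → ℕ)
    (hd : ∀ k, d k ≠ 0) (hd' : ∀ l, ¬ r ∣ d' l) (y : K → ℚ) (y' : L → ℚ)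
    (hy : ∀ k, (y k : ℂ) ∈ A) (hy' : ∀ l, (y' l : ℂ) ∈ A) (hy0 : ∀ k, y k ≠ 0)
    (hy0' : ∀ l, y' l ≠ 0)
    (hinj : ∀ a : K → ℂ, (∀ l, ∑ k, R k l * a k ∈ A) → ∀ k, a k ∈ A)
    (h1 : ∀ l, (d' l : ℂ) * ((y' l : ℂ) - 1) =
      (m : ℂ) ^ 2 * ∑ k, R k l * ((d k : ℂ) * ((y k : ℂ) - 1)))
    (h2 : ∀ l, (d' l : ℂ) * ((y' l : ℂ)⁻¹ - 1) = ∑ k, R k l * ((d k : ℂ) * ((y k : ℂ)⁻¹ - 1))) :
    ∀ k, y k = 1 := by
  have hr0 : (r : ℂ) ≠ 0 := by exact_mod_cast hr.ne_zero
  obtain ⟨c, hc⟩ := hrm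
  have key : ∀ i k, (d k : ℂ) * ((y k : ℂ) - 1) / (r : ℂ) ^ i ∈ A := by
    intro i
    induction i using Nat.strong_induction_on with
    | _ i ih =>
      intro k
      have hcast : ∀ j : K, (y j : ℂ) ≠ 0 := fun j => by exact_mod_cast hy0 j
      rcases i with _ | i
      · simpa using mul_mem (natCast_mem A (d k)) (sub_mem (hy k) (one_mem A))
      have hi := ih i (Nat.lt_succ_self i)
      have hw : ∀ l, (d' l : ℂ) * ((y' l : ℂ) - 1) / (r : ℂ) ^ (i + 2) ∈ A := fun l => by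
        have e : (d' l : ℂ) * ((y' l : ℂ) - 1) / (r : ℂ) ^ (i + 2) =
            (c : ℂ) ^ 2 * ∑ j, R j l * ((d j : ℂ) * ((y j : ℂ) - 1) / (r : ℂ) ^ i) := by
          rw [h1 l, hc, Finset.mul_sum, Finset.mul_sum, Finset.sum_div]
          refine Finset.sum_congr rfl fun j _ => ?_
          push_cast
          field_simp
          ring
        rw [e]
        refine mul_mem (pow_mem (natCast_mem A c) _) (sum_mem fun j _ => mul_mem ?_ (hi j))
        obtain ⟨n, hn⟩ := hR j l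
        exact hn ▸ natCast_mem A n
      have hinv : ∀ l, (y' l : ℂ)⁻¹ ∈ A := fun l => by
        have hz : ((y' l : ℂ) - 1) / r ∈ A := by
          have h3 := mul_mem (mul_mem (inv_natCast_mem hrA hr (hd' l)) (hw l))
            (pow_mem (natCast_mem A r) (i + 1))
          have hd0 : (d' l : ℂ) ≠ 0 := by
            exact_mod_cast fun e : d' l = 0 => hd' l (e ▸ dvd_zero r)
          have e : (d' l : ℂ)⁻¹ * ((d' l : ℂ) * ((y' l : ℂ) - 1) / (r : ℂ) ^ (i + 2)) *
              (r : ℂ) ^ (i + 1) = ((y' l : ℂ) - 1) / r := by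
            field_simp
            ring
          rwa [e] at h3
        have hu : IsUnit (⟨_, hy' l⟩ : A) := by
          refine IsLocalRing.notMem_maximalIdeal.1 fun hm => ?_
          have e : (⟨_, hy' l⟩ : A) - (r : A) * ⟨_, hz⟩ = 1 := Subtype.ext (by
            show (y' l : ℂ) - (r : ℂ) * (((y' l : ℂ) - 1) / r) = 1
            field_simp
            ring)
          exact (IsLocalRing.maximalIdeal.isMaximal A).ne_top ((Ideal.eq_top_iff_one _).2
            (e ▸ Ideal.sub_mem _ hm (Ideal.mul_mem_right _ _ hrA)))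
        obtain ⟨u, hu⟩ := hu
        have h4 : (y' l : ℂ) * ((u⁻¹ : Aˣ) : A) = 1 := by
          have := congrArg (fun z : A => (z : ℂ)) u.mul_inv
          simpa [hu] using this
        rw [inv_eq_of_mul_eq_one_right h4]
        exact ((u⁻¹ : Aˣ) : A).2
      have hu := hinj (fun j => (d j : ℂ) * ((y j : ℂ)⁻¹ - 1) / (r : ℂ) ^ (i + 2)) (fun l => by
        have e : ∑ j, R j l * ((d j : ℂ) * ((y j : ℂ)⁻¹ - 1) / (r : ℂ) ^ (i + 2)) =
            -((d' l : ℂ) * ((y' l : ℂ) - 1) / (r : ℂ) ^ (i + 2) * (y' l : ℂ)⁻¹) := by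
          simp only [mul_div_assoc']
          rw [← Finset.sum_div, ← h2 l]
          have : (y' l : ℂ) ≠ 0 := by exact_mod_cast hy0' l
          field_simp
          ring
        rw [e]
        exact neg_mem (mul_mem (hw l) (hinv l))) k
      have e : (d k : ℂ) * ((y k : ℂ) - 1) / (r : ℂ) ^ (i + 1) =
          -((d k : ℂ) * ((y k : ℂ)⁻¹ - 1) / (r : ℂ) ^ (i + 2) * (r : ℂ) * (y k : ℂ)) := by
        have := hcast k
        field_simp
        ring
      rw [e]
      exact neg_mem (mul_mem (mul_mem hu (natCast_mem A r)) (hy k))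
  intro k
  have h0 := eq_zero_of_div_pow_mem hrA hr (q := (d k : ℚ) * (y k - 1)) fun i => by
    push_cast
    exact key i k
  rcases mul_eq_zero.1 h0 with h | h
  · exact absurd (Nat.cast_eq_zero.1 h) (hd k)
  · exact sub_eq_zero.1 h

end CfsgLib.Bender.End
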