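import Cfsg.Agent.Lib.Bender.End.Side

/-!
# The lattice generated by the restrictions of the characters over `ε`

`resMult κ l` is the multiplicity of `κ` in the restriction of `l` to the complement.
-/

set_option autoImplicit false
set_option linter.unusedSectionVars false

namespace CfsgLib.Bender.End

open Cfsg CfsgLib.Char Subgroup
open scoped ComplexConjugate

universe u

variable {T : Type u} [Group T] {S T₀ : Subgroup T}

/-- The multiplicity of `κ` in the restriction of `l`. -/
noncomputable def resMult [Fintype T₀] (κ : IrrCharacter T₀) (l : IrrCharacter T) : ℂ :=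
  classInner (κ : T₀ → ℂ) (fun k : T₀ => (l : T → ℂ) k)

variable [Fintype T] [Fintype T₀]

theorem exists_nat_resMult (κ : IrrCharacter T₀) (l : IrrCharacter T) :
    ∃ m : ℕ, resMult κ l = m :=
  classInner_isCharacter (isCharacter_irr κ) (isCharacter_comp (isCharacter_irr l) T₀.subtype)

theorem res_eq_sum [Fintype (IrrCharacter T₀)] (l : IrrCharacter T) (k : T₀) :
    (l : T → ℂ) k = ∑ κ : IrrCharacter T₀, resMult κ l * (κ : T₀ → ℂ) k := by
  have hc : IsClassFunction T₀ (fun k : T₀ => (l : T → ℂ) k) := fun a b => by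
    simpa using isClassFunction_irr l (a : T) (b : T)
  have h := congrFun (classFun_expand hc) k
  rw [Finset.sum_apply] at h
  refine h.trans (Finset.sum_congr rfl fun κ _ => ?_)
  obtain ⟨m, hm⟩ := exists_nat_resMult κ l
  rw [Pi.smul_apply, smul_eq_mul, ← classInner_conj]
  show conj (resMult κ l) * _ = _
  rw [hm, map_natCast]

theorem proj_sum' {G : Type u} [Group G] [Fintype G] {ι : Type*} [Fintype ι] (c : G → ℂ)
    (f : ι → G → ℂ) (x : G) : proj c (∑ i, f i) x = ∑ i, proj c (f i) x := by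
  simp only [proj, Finset.sum_apply, Finset.mul_sum]
  exact Finset.sum_comm

namespace SideData

variable (D : SideData S T₀) {E : Subgroup T} [E.Normal] {ε : E →* ℂˣ}
include D

open Classical in
theorem exists_sum_resMult [Fintype (IrrCharacter T)] (hE : E ≤ S)
    (hε : ∀ (g : T) (a : E) (h : g * a * g⁻¹ ∈ E), ε ⟨g * a * g⁻¹, h⟩ = ε a) (k : T₀) :
    ∃ M : Subgroup T, M ≤ S ∧ ∀ κ : IrrCharacter T₀,
      ∑ l : IrrCharacter T, (if Over ε (l : T → ℂ) then resMult κ l * (l : T → ℂ) k else 0) =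
        (Nat.card M : ℂ) / (Nat.card E : ℂ) * (κ : T₀ → ℂ) k := by
  haveI := Fintype.ofFinite E
  obtain ⟨M, hMS, hM⟩ := D.proj_indFun hE hε k
  refine ⟨M, hMS, fun κ => ?_⟩
  rw [← hM _ (isClassFunction_irr κ),
    classFun_expand (isClassFunction_indFun T₀ (κ : T₀ → ℂ)), proj_sum']
  refine Finset.sum_congr rfl fun l _ => ?_
  rw [classInner_indFun T₀ _ _ (isClassFunction_irr l), proj_smul]
  split_ifs with h
  · rw [over_iff.1 h]; rfl
  · rw [((over_or_killed hε l.2).resolve_left h) (k : T), mul_zero]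

open Classical in
/-- The restrictions of the characters over `ε` determine the coefficients integrally. -/
theorem integral_of_inner [Fintype (IrrCharacter T)] [Fintype (IrrCharacter T₀)] (hE : E ≤ S)
    (hε : ∀ (g : T) (a : E) (h : g * a * g⁻¹ ∈ E), ε ⟨g * a * g⁻¹, h⟩ = ε a)
    (A : ValuationSubring ℂ) (h2 : (2 : ℂ)⁻¹ ∈ A) (a : IrrCharacter T₀ → ℂ)
    (ha : ∀ l : IrrCharacter T, Over ε (l : T → ℂ) → ∑ κ, resMult κ l * a κ ∈ A)
    (κ₀ : IrrCharacter T₀) : a κ₀ ∈ A := by
  have hnat : ∀ n : ℕ, (n : ℂ) ∈ A := natCast_mem A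
  choose M hMS hM using D.exists_sum_resMult hE hε
  set u : T₀ → ℂ := fun k => (Nat.card (M k) : ℂ) / (Nat.card E : ℂ) with hu
  have hpow : ∀ K : Subgroup T, K ≤ S → ∃ n, Nat.card K = 2 ^ n := fun K hK => by
    haveI : Fact (Nat.Prime 2) := ⟨Nat.prime_two⟩
    exact IsPGroup.iff_card.1 (D.pgroup.to_le hK)
  have hu_mem : ∀ k, u k ∈ A ∧ (u k)⁻¹ ∈ A := fun k => by
    obtain ⟨i, hi⟩ := hpow _ (hMS k)
    obtain ⟨j, hj⟩ := hpow _ hE
    simp only [hu, hi, hj, Nat.cast_pow, Nat.cast_ofNat, inv_div]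
    exact ⟨by rw [div_eq_mul_inv, ← inv_pow]; exact mul_mem (pow_mem (hnat 2) _) (pow_mem h2 _),
      by rw [div_eq_mul_inv, ← inv_pow]; exact mul_mem (pow_mem (hnat 2) _) (pow_mem h2 _)⟩
  let Mem : (T₀ → ℂ) → Prop := fun f =>
    IsClassFunction T₀ f ∧ ∀ φ : IrrCharacter T₀, classInner f (φ : T₀ → ℂ) ∈ A
  have mem_smul : ∀ (z : ℂ) (f : T₀ → ℂ), z ∈ A → Mem f → Mem (z • f) := fun z f hz hf =>
    ⟨fun x y => by simp [hf.1 x y], fun φ => by
      rw [classInner_smul_left]; exact mul_mem hz (hf.2 φ)⟩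
  have mem_sum : ∀ (ι : Type u) (s : Finset ι) (f : ι → T₀ → ℂ), (∀ i ∈ s, Mem (f i)) →
      Mem (∑ i ∈ s, f i) := fun ι s f hf =>
    ⟨fun x y => by simp only [Finset.sum_apply]; exact Finset.sum_congr rfl fun i hi => (hf i hi).1 x y,
      fun φ => by rw [classInner_sum_left]; exact sum_mem fun i hi => (hf i hi).2 φ⟩
  have mem_sub : ∀ f g, Mem f → Mem g → Mem (f - g) := fun f g hf hg =>
    ⟨fun x y => by simp [hf.1 x y, hg.1 x y], fun φ => by
      rw [classInner_sub_left]; exact sub_mem (hf.2 φ) (hg.2 φ)⟩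
  have mem_res : ∀ l : IrrCharacter T, Mem (fun k : T₀ => (l : T → ℂ) k) := fun l =>
    ⟨fun x y => by simpa using isClassFunction_irr l (x : T) (y : T), fun φ => by
      obtain ⟨m, hm⟩ := classInner_isCharacter (isCharacter_comp (isCharacter_irr l) T₀.subtype)
        (isCharacter_irr φ)
      rw [show classInner (fun k : T₀ => (l : T → ℂ) k) (φ : T₀ → ℂ) = m from hm]
      exact hnat m⟩
  -- `u * _` on combinations
  have humul : ∀ b : IrrCharacter T₀ → ℂ, u * ∑ κ, b κ • (κ : T₀ → ℂ) =
      ∑ l : IrrCharacter T, (if Over ε (l : T → ℂ) then ∑ κ, resMult κ l * b κ else 0) •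
        (fun k : T₀ => (l : T → ℂ) k) := by
    intro b
    funext k
    simp only [Pi.mul_apply, Finset.sum_apply, Pi.smul_apply, smul_eq_mul, Finset.mul_sum, hu]
    calc ∑ κ, (Nat.card (M k) : ℂ) / (Nat.card E : ℂ) * (b κ * (κ : T₀ → ℂ) k)
        = ∑ κ, b κ * ∑ l : IrrCharacter T,
            (if Over ε (l : T → ℂ) then resMult κ l * (l : T → ℂ) k else 0) :=
          Finset.sum_congr rfl fun κ _ => by rw [hM]; ring
      _ = _ := by
          simp only [Finset.mul_sum, mul_ite, mul_zero, ite_mul, zero_mul, Finset.sum_mul]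
          rw [Finset.sum_comm]
          refine Finset.sum_congr rfl fun l _ => ?_
          split_ifs
          · exact Finset.sum_congr rfl fun κ _ => by ring
          · simp
  have mem_mul : ∀ f, Mem f → Mem (u * f) := by
    intro f hf
    rw [classFun_expand hf.1, humul]
    refine mem_sum _ _ _ fun l _ => mem_smul _ _ ?_ (mem_res l)
    split_ifs
    · refine sum_mem fun κ _ => mul_mem ?_ (hf.2 κ)
      obtain ⟨m, hm⟩ := exists_nat_resMult κ l
      exact hm ▸ hnat m
    · exact zero_mem A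
  set F : T₀ → ℂ := ∑ κ, a κ • (κ : T₀ → ℂ) with hF
  have huF : Mem (u * F) := by
    rw [hF, humul]
    refine mem_sum _ _ _ fun l _ => mem_smul _ _ ?_ (mem_res l)
    split_ifs with h
    · exact ha l h
    · exact zero_mem A
  have hkey : ∀ s : Finset ℂ, (∀ z ∈ s, z ∈ A) →
      Mem (u * ((fun k => ∏ z ∈ s, (u k - z)) * F)) ∧
        Mem ((fun k => ∏ z ∈ s, (u k - z)) * F - (∏ z ∈ s, -z) • F) := by
    intro s
    induction s using Finset.induction_on with
    | empty =>
      intro _
      have e1 : (fun k => ∏ z ∈ (∅ : Finset ℂ), (u k - z)) * F = F := by funext k; simp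
      rw [e1, Finset.prod_empty, one_smul, sub_self]
      exact ⟨huF, fun x y => rfl, fun φ => by rw [classInner_zero_left]; exact zero_mem A⟩
    | insert z s hz ih =>
      intro hs
      obtain ⟨h1, h3⟩ := ih fun w hw => hs w (Finset.mem_insert_of_mem hw)
      have hzA := hs z (Finset.mem_insert_self z s)
      set g := (fun k => ∏ w ∈ s, (u k - w)) * F with hg
      have e : (fun k => ∏ w ∈ insert z s, (u k - w)) * F = u * g - z • g := by
        funext k
        simp only [hg, Pi.mul_apply, Pi.sub_apply, Pi.smul_apply, smul_eq_mul, Finset.prod_insert hz]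
        ring
      rw [e]
      refine ⟨?_, ?_⟩
      · rw [show u * (u * g - z • g) = u * (u * g) - z • (u * g) by
          funext k; simp only [Pi.mul_apply, Pi.sub_apply, Pi.smul_apply, smul_eq_mul]; ring]
        exact mem_sub _ _ (mem_mul _ h1) (mem_smul _ _ hzA h1)
      · rw [show u * g - z • g - (∏ w ∈ insert z s, -w) • F =
            u * g - z • (g - (∏ w ∈ s, -w) • F) by
          funext k
          simp only [Pi.mul_apply, Pi.sub_apply, Pi.smul_apply, smul_eq_mul, Finset.prod_insert hz]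
          ring]
        exact mem_sub _ _ h1 (mem_smul _ _ hzA h3)
  set V := Finset.univ.image u with hV
  have hVA : ∀ z ∈ V, z ∈ A ∧ z⁻¹ ∈ A := fun z hz => by
    obtain ⟨k, -, rfl⟩ := Finset.mem_image.1 hz
    exact hu_mem k
  obtain ⟨-, hq⟩ := hkey V fun z hz => (hVA z hz).1
  have h0 : (fun k => ∏ z ∈ V, (u k - z)) * F = 0 := by
    funext k
    rw [Pi.mul_apply, Finset.prod_eq_zero (Finset.mem_image.2 ⟨k, Finset.mem_univ k, rfl⟩)
      (sub_self _), zero_mul]
    rfl
  rw [h0, zero_sub, ← neg_smul] at hq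
  have hc := hq.2 κ₀
  rw [classInner_smul_left, hF, classInner_sum_left] at hc
  simp only [classInner_smul_left, classInner_irr, mul_ite, mul_one, mul_zero, Finset.sum_ite_eq',
    Finset.mem_univ, if_true] at hc
  have hne : ∀ z ∈ V, -z ≠ 0 := fun z hz e => by
    obtain ⟨k, -, rfl⟩ := Finset.mem_image.1 hz
    simp only [hu, neg_eq_zero, div_eq_zero_iff, Nat.cast_eq_zero] at e
    rcases e with e | e <;> exact Nat.card_pos.ne' e
  have hPinv : (∏ z ∈ V, -z)⁻¹ ∈ A := by
    rw [← Finset.prod_inv_distrib]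
    refine prod_mem fun z hz => ?_
    rw [inv_neg]
    exact neg_mem (hVA z hz).2
  have hres := neg_mem (mul_mem hPinv hc)
  rwa [neg_mul, mul_neg, neg_neg, ← mul_assoc, inv_mul_cancel₀ (Finset.prod_ne_zero_iff.2 hne),
    one_mul] at hres

end SideData

end CfsgLib.Bender.End
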