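import Cfsg.Agent.Lib.Bender.End.Over
import Cfsg.Agent.Lib.Char.Induction

/-!
# Induction from the stabilizer of a linear character of a normal subgroup
-/

set_option autoImplicit false
set_option linter.unusedSectionVars false

namespace CfsgLib.Bender.End

open Cfsg CfsgLib.Char Subgroup
open scoped ComplexConjugate

universe u

variable {G : Type u} [Group G]

theorem over_proj [Fintype G] {N : Subgroup G} {θ : N →* ℂˣ} (f : G → ℂ) :
    Over θ (fun x => proj (linFun N {θ}) f x) := by
  haveI := Fintype.ofFinite N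
  intro b x
  dsimp only
  rw [proj_single, proj_single, ← mul_assoc, mul_comm (θ b : ℂ), mul_assoc]
  congr 1
  rw [Finset.mul_sum]
  refine Fintype.sum_equiv (Equiv.mulRight b) _ _ fun a => ?_
  simp only [Equiv.coe_mulRight, map_mul, mul_inv_rev, Units.val_mul, Subgroup.coe_mul, mul_assoc]
  rw [← mul_assoc (θ b : ℂ), ← Units.val_mul, mul_inv_cancel, Units.val_one, one_mul]

/-- Against a function over `θ` only the `θ`-part counts. -/
theorem classInner_proj [Fintype G] {N : Subgroup G} {θ : N →* ℂˣ} {f : G → ℂ} (hf : Over θ f)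
    (g : G → ℂ) : classInner f g = classInner f (fun x => proj (linFun N {θ}) g x) := by
  refine sub_eq_zero.1 ?_
  rw [← classInner_sub_right]
  refine classInner_eq_zero_of_killed hf fun x => ?_
  rw [proj_sub, over_iff.1 (over_proj g) x, sub_self]

section

variable {N : Subgroup G} [hN : N.Normal] (θ : N →* ℂˣ)

/-- The conjugate of a linear character. -/
noncomputable def conjLin (h : G) : N →* ℂˣ := θ.comp (MulAut.conjNormal h : MulAut N).toMonoidHom

theorem conjLin_apply (h : G) (a : N) (ha : h * (a : G) * h⁻¹ ∈ N) :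
    conjLin θ h a = θ ⟨h * a * h⁻¹, ha⟩ :=
  congrArg θ (Subtype.ext (MulAut.conjNormal_apply h a))

theorem conjLin_mul (h k : G) : conjLin θ (h * k) = conjLin (conjLin θ h) k := by
  ext a
  simp [conjLin, map_mul]

theorem conjLin_one : conjLin θ 1 = θ := by
  ext a
  simp [conjLin]

/-- The stabilizer of a linear character. -/
noncomputable def linStab : Subgroup G where
  carrier := {h | conjLin θ h = θ}
  one_mem' := conjLin_one θ
  mul_mem' := fun {h k} hh hk => by
    show conjLin θ (h * k) = θ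
    rw [conjLin_mul, show conjLin θ h = θ from hh]
    exact hk
  inv_mem' := fun {h} hh => by
    show conjLin θ h⁻¹ = θ
    conv_lhs => rw [← show conjLin θ h = θ from hh]
    rw [← conjLin_mul, mul_inv_cancel, conjLin_one]

theorem le_linStab : N ≤ linStab θ := fun n hn => by
  show conjLin θ n = θ
  ext a
  rw [conjLin_apply θ n a (hN.conj_mem _ a.2 n),
    show (⟨n * (a : G) * n⁻¹, hN.conj_mem _ a.2 n⟩ : N) = ⟨n, hn⟩ * a * ⟨n, hn⟩⁻¹ from rfl, map_mul,
    map_mul, map_inv, mul_comm (θ ⟨n, hn⟩) (θ a), mul_inv_cancel_right]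

/-- `θ` on the subgroup of its stabilizer. -/
noncomputable def subLin : N.subgroupOf (linStab θ) →* ℂˣ :=
  θ.comp (Subgroup.subgroupOfEquivOfLe (le_linStab θ)).toMonoidHom

theorem subLin_apply (a : N.subgroupOf (linStab θ)) :
    subLin θ a = θ ⟨((a : linStab θ) : G), a.2⟩ :=
  congrArg θ (Subtype.ext rfl)

theorem subLin_invariant (g : linStab θ) (a : N.subgroupOf (linStab θ))
    (h : g * a * g⁻¹ ∈ N.subgroupOf (linStab θ)) : subLin θ ⟨g * a * g⁻¹, h⟩ = subLin θ a := by
  rw [subLin_apply, subLin_apply]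
  have e := DFunLike.congr_fun (show conjLin θ (g : G) = θ from g.2) ⟨((a : linStab θ) : G), a.2⟩
  rw [conjLin_apply θ (g : G) _ (hN.conj_mem _ a.2 (g : G))] at e
  exact e

variable [Fintype G]

open Classical in
/-- The orbit of a linear character. -/
noncomputable def orbitLin : Finset (N →* ℂˣ) := Finset.univ.image (conjLin θ)

theorem orbitLin_invariant (h : G) (φ : N →* ℂˣ) (hφ : φ ∈ orbitLin θ) :
    ∃ φ' ∈ orbitLin θ, ∀ (a : N) (ha : h * (a : G) * h⁻¹ ∈ N), φ' a = φ ⟨h * a * h⁻¹, ha⟩ := by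
  classical
  obtain ⟨k, -, rfl⟩ := Finset.mem_image.1 hφ
  refine ⟨conjLin θ (k * h), Finset.mem_image.2 ⟨k * h, Finset.mem_univ _, rfl⟩, fun a ha => ?_⟩
  rw [conjLin_mul, conjLin_apply _ h a ha]

theorem idemFun_orbitLin : IdemFun (⊤ : Subgroup G) (linFun N (orbitLin θ)) :=
  idemFun_linFun le_top (by rw [Subgroup.normalizer_eq_top]) fun h _ φ hφ => orbitLin_invariant θ h φ hφ

variable [Fintype (linStab θ)]

open Classical in
theorem proj_linFun_indFun (Θ : Finset (N →* ℂˣ)) {f : linStab θ → ℂ} (hf : Over (subLin θ) f)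
    (x : G) :
    proj (linFun N Θ) (indFun (linStab θ) f) x = (Nat.card (linStab θ) : ℂ)⁻¹ *
      ∑ y : G, if conjLin θ y⁻¹ ∈ Θ then extendByZero (linStab θ) f (y⁻¹ * x * y) else 0 := by
  haveI := Fintype.ofFinite N
  have hN0 : (Nat.card N : ℂ) ≠ 0 := by exact_mod_cast Nat.card_pos.ne'
  have hext : ∀ (a : N) (y : G), extendByZero (linStab θ) f (y⁻¹ * ((a : G) * x) * y) =
      (conjLin θ y⁻¹ a : ℂ) * extendByZero (linStab θ) f (y⁻¹ * x * y) := by
    intro a y
    have hc : y⁻¹ * (a : G) * y⁻¹⁻¹ ∈ N := hN.conj_mem _ a.2 _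
    have hcT : y⁻¹ * (a : G) * y ∈ linStab θ := by
      have := le_linStab θ hc
      rwa [inv_inv] at this
    have e : y⁻¹ * ((a : G) * x) * y = (y⁻¹ * (a : G) * y) * (y⁻¹ * x * y) := by group
    by_cases hy : y⁻¹ * x * y ∈ linStab θ
    · rw [extendByZero_mem _ f hy, extendByZero_mem _ f (e ▸ mul_mem hcT hy),
        conjLin_apply θ y⁻¹ a hc]
      have h1 := hf ⟨⟨_, hcT⟩, by
        show y⁻¹ * (a : G) * y ∈ N
        simpa using hc⟩ ⟨_, hy⟩
      rw [subLin_apply] at h1
      refine (congrArg f (Subtype.ext e)).trans (h1.trans ?_)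
      refine congrArg₂ (· * ·) (congrArg (fun z : ℂˣ => (z : ℂ)) (congrArg θ (Subtype.ext ?_))) rfl
      simp
    · rw [extendByZero_not_mem _ f hy, extendByZero_not_mem, mul_zero]
      intro h
      refine hy ?_
      have := mul_mem (inv_mem hcT) h
      rwa [e, inv_mul_cancel_left] at this
  simp only [proj]
  rw [← Finset.sum_subset (Finset.subset_univ (Finset.univ.filter (fun a : G => a ∈ N)))
    (fun a _ ha => by
      simp only [Finset.mem_filter, Finset.mem_univ, true_and] at ha
      rw [linFun_of_notMem ha, zero_mul]),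
    Finset.sum_subtype (p := fun a => a ∈ N) _ (fun a => by simp)]
  simp only [indFun, hext, Finset.mul_sum]
  rw [Finset.sum_comm]
  refine Finset.sum_congr rfl fun y _ => ?_
  have hsum : ∑ a : N, linFun N Θ (a : G) * (conjLin θ y⁻¹ a : ℂ) =
      if conjLin θ y⁻¹ ∈ Θ then 1 else 0 := by
    calc ∑ a : N, linFun N Θ (a : G) * (conjLin θ y⁻¹ a : ℂ)
        = ∑ φ ∈ Θ, (Nat.card N : ℂ)⁻¹ * ∑ a : N, ((φ⁻¹ * conjLin θ y⁻¹ : N →* ℂˣ) a : ℂ) := by
          simp only [Finset.mul_sum]
          rw [Finset.sum_comm]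
          refine Finset.sum_congr rfl fun a _ => ?_
          rw [linFun_of_mem a.2, Finset.mul_sum, Finset.sum_mul]
          exact Finset.sum_congr rfl fun φ _ => by simp [mul_assoc]
      _ = ∑ φ ∈ Θ, if φ = conjLin θ y⁻¹ then (1 : ℂ) else 0 := by
          refine Finset.sum_congr rfl fun φ _ => ?_
          rw [sum_hom_units]
          have e : φ⁻¹ * conjLin θ y⁻¹ = 1 ↔ φ = conjLin θ y⁻¹ :=
            ⟨fun h => MonoidHom.ext fun a => by
              simpa [inv_mul_eq_one] using congrArg (fun ψ : N →* ℂˣ => ψ a) h,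
              fun h => MonoidHom.ext fun a => by simp [h]⟩
          rw [if_congr e rfl rfl, mul_ite, inv_mul_cancel₀ hN0, mul_zero]
      _ = _ := Finset.sum_ite_eq' Θ _ _
  calc _ = (Nat.card (linStab θ) : ℂ)⁻¹ * (∑ a : N, linFun N Θ (a : G) * (conjLin θ y⁻¹ a : ℂ)) *
        extendByZero (linStab θ) f (y⁻¹ * x * y) := by
        rw [Finset.mul_sum, Finset.sum_mul]
        exact Finset.sum_congr rfl fun a _ => by ring
    _ = _ := by rw [hsum]; split_ifs <;> simp

theorem proj_orbit_indFun {f : linStab θ → ℂ} (hf : Over (subLin θ) f) (x : G) :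
    proj (linFun N (orbitLin θ)) (indFun (linStab θ) f) x = indFun (linStab θ) f x := by
  classical
  rw [proj_linFun_indFun θ _ hf]
  simp only [indFun]
  congr 1
  refine Finset.sum_congr rfl fun y _ => ?_
  rw [if_pos (show conjLin θ y⁻¹ ∈ orbitLin θ from
    Finset.mem_image.2 ⟨y⁻¹, Finset.mem_univ _, rfl⟩)]

theorem proj_self_indFun {f : linStab θ → ℂ} (hc : IsClassFunction (linStab θ) f)
    (hf : Over (subLin θ) f) (x : linStab θ) :
    proj (linFun N {θ}) (indFun (linStab θ) f) (x : G) = f x := by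
  classical
  rw [proj_linFun_indFun θ _ hf]
  have h : ∀ y : G, (if conjLin θ y⁻¹ ∈ ({θ} : Finset (N →* ℂˣ)) then
      extendByZero (linStab θ) f (y⁻¹ * x * y) else 0) = if y ∈ linStab θ then f x else 0 := by
    intro y
    have hiff : conjLin θ y⁻¹ ∈ ({θ} : Finset (N →* ℂˣ)) ↔ y ∈ linStab θ := by
      rw [Finset.mem_singleton]
      exact inv_mem_iff (H := linStab θ)
    by_cases hy : y ∈ linStab θ
    · rw [if_pos (hiff.2 hy), if_pos hy,
        extendByZero_mem _ f (mul_mem (mul_mem (inv_mem hy) x.2) hy)]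
      have := hc x ⟨y, hy⟩⁻¹
      rw [inv_inv] at this
      exact this
    · rw [if_neg fun h => hy (hiff.1 h), if_neg hy]
  rw [Finset.sum_congr rfl fun y _ => h y, ← Finset.sum_filter, Finset.sum_const, nsmul_eq_mul,
    ← Fintype.card_subtype, ← Nat.card_eq_fintype_card, ← mul_assoc,
    inv_mul_cancel₀ (by exact_mod_cast Nat.card_pos.ne'), one_mul]

theorem proj_subLin (F : G → ℂ) (x : linStab θ) :
    proj (linFun (N.subgroupOf (linStab θ)) {subLin θ}) (fun a : linStab θ => F a) x =
      proj (linFun N {θ}) F (x : G) := by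
  classical
  haveI := Fintype.ofFinite N
  haveI := Fintype.ofFinite (N.subgroupOf (linStab θ))
  rw [proj_single, proj_single,
    Nat.card_congr (Subgroup.subgroupOfEquivOfLe (le_linStab θ)).toEquiv]
  congr 1
  refine Fintype.sum_equiv (Subgroup.subgroupOfEquivOfLe (le_linStab θ)).toEquiv _ _ fun a => ?_
  simp only [MulEquiv.toEquiv_eq_coe, EquivLike.coe_coe, subLin_apply, Subgroup.coe_mul]
  rfl

theorem classInner_indFun_over {f g : linStab θ → ℂ} (hg : IsClassFunction (linStab θ) g)
    (hf' : Over (subLin θ) f) (hg' : Over (subLin θ) g) :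
    classInner (indFun (linStab θ) f) (indFun (linStab θ) g) = classInner f g := by
  rw [classInner_indFun _ _ _ (isClassFunction_indFun _ _), classInner_proj hf']
  congr 1
  funext x
  rw [proj_subLin θ (indFun (linStab θ) g) x, proj_self_indFun θ hg hg' x]

theorem isIrr_indFun (l : IrrCharacter (linStab θ)) (hl : Over (subLin θ) (l : linStab θ → ℂ)) :
    IsIrrCharacter G (indFun (linStab θ) (l : linStab θ → ℂ)) :=
  isIrr_of_isCharacter_norm_one (isCharacter_indFun _ (isCharacter_irr l))
    (by rw [classInner_indFun_over θ (isClassFunction_irr l) hl hl, classInner_irr_self])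

theorem indFun_injective (l l' : IrrCharacter (linStab θ))
    (hl : Over (subLin θ) (l : linStab θ → ℂ)) (hl' : Over (subLin θ) (l' : linStab θ → ℂ))
    (h : indFun (linStab θ) (l : linStab θ → ℂ) = indFun (linStab θ) (l' : linStab θ → ℂ)) :
    l = l' := by
  by_contra hne
  have h1 := classInner_indFun_over θ (isClassFunction_irr l') hl hl'
  rw [← h, classInner_indFun_over θ (isClassFunction_irr l) hl hl, classInner_irr_self,
    classInner_irr_ne hne] at h1
  exact one_ne_zero h1

end

end CfsgLib.Bender.End
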