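import Cfsg.Agent.Lib.Bender.End.Over

/-!
# Functions over a linear character and passage to subgroups
-/

set_option autoImplicit false
set_option linter.unusedSectionVars false

namespace CfsgLib.Bender.End

open Cfsg CfsgLib.Char Subgroup

universe u

variable {G : Type u} [Group G] {N K : Subgroup G} (hNK : N ≤ K) (θ : N →* ℂˣ)

/-- A linear character seen on the subgroup of a larger group. -/
noncomputable def resLin : N.subgroupOf K →* ℂˣ :=
  θ.comp (Subgroup.subgroupOfEquivOfLe hNK).toMonoidHom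

theorem resLin_apply (a : N.subgroupOf K) : resLin hNK θ a = θ ⟨((a : K) : G), a.2⟩ :=
  congrArg θ (Subtype.ext rfl)

theorem resLin_invariant [N.Normal]
    (hθ : ∀ g ∈ K, ∀ (a : N) (h : g * a * g⁻¹ ∈ N), θ ⟨g * a * g⁻¹, h⟩ = θ a)
    (g : K) (a : N.subgroupOf K) (h : g * a * g⁻¹ ∈ N.subgroupOf K) :
    resLin hNK θ ⟨g * a * g⁻¹, h⟩ = resLin hNK θ a := by
  rw [resLin_apply, resLin_apply]
  exact hθ (g : G) g.2 ⟨((a : K) : G), a.2⟩ ((inferInstance : N.Normal).conj_mem _ a.2 (g : G))

theorem Over.res {f : G → ℂ} (hf : Over θ f) : Over (resLin hNK θ) (fun x : K => f x) := fun a x => by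
  rw [resLin_apply]
  exact hf ⟨((a : K) : G), a.2⟩ (x : G)

theorem proj_res [Fintype G] [Fintype K] (f : G → ℂ) (x : K) :
    proj (linFun (N.subgroupOf K) {resLin hNK θ}) (fun a : K => f a) x =
      proj (linFun N {θ}) f (x : G) := by
  classical
  haveI := Fintype.ofFinite N
  haveI := Fintype.ofFinite (N.subgroupOf K)
  rw [proj_single, proj_single, Nat.card_congr (Subgroup.subgroupOfEquivOfLe hNK).toEquiv]
  congr 1
  refine Fintype.sum_equiv (Subgroup.subgroupOfEquivOfLe hNK).toEquiv _ _ fun a => ?_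
  simp only [MulEquiv.toEquiv_eq_coe, EquivLike.coe_coe, resLin_apply, Subgroup.coe_mul]
  rfl

end CfsgLib.Bender.End
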