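import Cfsg.Agent.Lib.Bender.End.Pairs
import Cfsg.Agent.Lib.Bender.End.Lattice
import Cfsg.Agent.Lib.Bender.End.Orbit
import Cfsg.Agent.Lib.Bender.End.Restrict
import Cfsg.Agent.Lib.Bender.End.Contraction

/-!
# The character theoretic contradiction

`false_of_base`: a subgroup `H` of odd index in which every element of even order fixes only the base
coset, with the data `S, E, N, θ, ε, τ`, does not exist.
-/

set_option autoImplicit false
set_option linter.unusedSectionVars false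

namespace CfsgLib.Bender.End

open Cfsg CfsgLib.Char Subgroup
open scoped ComplexConjugate

universe u

/-- Extension by zero of an idempotent of a subgroup. -/
theorem idemFun_extend {G : Type u} [Group G] [Fintype G] {H : Subgroup G} [Fintype H] {c : H → ℂ}
    (hc : IdemFun (⊤ : Subgroup H) c) : IdemFun H (extendByZero H c) := by
  classical
  refine ⟨fun g hg => extendByZero_not_mem H c hg, fun h hh g => ?_, fun g => ?_⟩
  · by_cases hg : g ∈ H
    · rw [extendByZero_mem H c hg, extendByZero_mem H c (H.mul_mem (H.mul_mem hh hg) (H.inv_mem hh))]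
      exact hc.inv ⟨h, hh⟩ trivial ⟨g, hg⟩
    · rw [extendByZero_not_mem H c hg, extendByZero_not_mem]
      intro h'
      refine hg ?_
      have := H.mul_mem (H.mul_mem (H.inv_mem hh) h') hh
      simpa [mul_assoc] using this
  · rw [sum_extendByZero_mul H c fun a => extendByZero H c (a⁻¹ * g)]
    by_cases hg : g ∈ H
    · rw [extendByZero_mem H c hg, ← hc.idem ⟨g, hg⟩]
      refine Finset.sum_congr rfl fun a _ => ?_
      rw [extendByZero_mem H c (H.mul_mem (H.inv_mem a.2) hg)]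
      rfl
    · rw [extendByZero_not_mem H c hg]
      refine Finset.sum_eq_zero fun a _ => ?_
      rw [extendByZero_not_mem H c, mul_zero]
      intro h'
      have := H.mul_mem a.2 h'
      rw [mul_inv_cancel_left] at this
      exact hg this

theorem even_orderOf_mul {H : Type u} [Group H] [Finite H] {N : Subgroup H} [N.Normal]
    (hN : Odd (Nat.card N)) {a x : H} (ha : a ∈ N) (hx : Even (orderOf x)) :
    Even (orderOf (a * x)) := by
  by_contra h
  rw [Nat.not_even_iff_odd] at h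
  have h1 : x ^ orderOf (a * x) ∈ N := by
    rw [← QuotientGroup.eq_one_iff, QuotientGroup.mk_pow]
    have e : ((a * x : H) : H ⧸ N) = (x : H ⧸ N) := by
      rw [QuotientGroup.mk_mul, (QuotientGroup.eq_one_iff a).2 ha, one_mul]
    rw [← e, ← QuotientGroup.mk_pow, pow_orderOf_eq_one, QuotientGroup.mk_one]
  have h2 : x ^ (orderOf (a * x) * Nat.card N) = 1 := by
    rw [pow_mul]
    exact congrArg Subtype.val (pow_card_eq_one' (x := (⟨_, h1⟩ : N)))
  exact (Nat.not_even_iff_odd.2 ((h.mul hN).of_dvd_nat (orderOf_dvd_of_pow_eq_one h2))) hx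

variable {G : Type u} [Group G] [Fintype G]

set_option maxHeartbeats 2000000 in
theorem false_of_base {H : Subgroup G} [Fintype H] (hodd : Odd H.index)
    (heven : ∀ h : H, Even (orderOf (h : G)) → OnlyBase H (h : G))
    {t : H} (ht1 : t ≠ 1) (ht : t * t = 1) (hconj : ∀ j : H, IsConj (t : G) j → IsConj t j)
    {S E N : Subgroup H} [S.Normal] [E.Normal] [N.Normal]
    (hS : IsPGroup 2 S) (hES : E ≤ S) (htE : t ∈ E)
    (hEconj : ∀ e ∈ E, e ≠ 1 → IsConj t e)
    (hNodd : Odd (Nat.card N)) (hSN : ∀ s ∈ S, ∀ a ∈ N, s * a = a * s)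
    (θ : N →* ℂˣ) (hSodd : Odd (S.subgroupOf (linStab θ)).index) (ε : E →* ℂˣ) (hε1 : ε ≠ 1)
    (hεT : ∀ g ∈ linStab θ, ∀ (a : E) (h : g * a * g⁻¹ ∈ E), ε ⟨g * a * g⁻¹, h⟩ = ε a)
    {r : ℕ} (hr : r.Prime) (hrm : r ∣ Nat.card E - 1) (hrT : ¬ r ∣ Nat.card (linStab θ))
    (hn : Nat.card S * Nat.card N < H.index)
    (τ : IrrCharacter H → IrrCharacter H)
    (hτinj : ∀ ψ ψ' : IrrCharacter H,
      (∀ x, proj (linFun N (orbitLin θ)) (ψ : H → ℂ) x = (ψ : H → ℂ) x) →
      (∀ x, proj (linFun N (orbitLin θ)) (ψ' : H → ℂ) x = (ψ' : H → ℂ) x) → τ ψ = τ ψ' → ψ = ψ')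
    (hτ : ∀ ψ : IrrCharacter H,
      (∀ x, proj (linFun N (orbitLin θ)) (ψ : H → ℂ) x = (ψ : H → ℂ) x) →
      (∀ x, proj (linFun N (orbitLin θ)) (τ ψ : H → ℂ) x = 0) ∧
        (τ ψ : H → ℂ) 1 = (ψ : H → ℂ) 1 ∧ (τ ψ : H → ℂ) t = (ψ : H → ℂ) t ∧
        ∀ h : H, ¬ OnlyBase H (h : G) → (τ ψ : H → ℂ) h = (ψ : H → ℂ) h) : False := by
  classical
  -- the stabilizer and its complement
  set T := linStab θ with hT
  have hNT : N ≤ T := le_linStab θ
  have hST : S ≤ T := fun s hs => by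
    show conjLin θ s = θ
    ext a
    rw [conjLin_apply θ s a ((inferInstance : N.Normal).conj_mem _ a.2 s)]
    congr 2
    exact Subtype.ext (by simp [hSN s hs a a.2])
  have hET : E ≤ T := hES.trans hST
  have hTodd : Odd (S.subgroupOf T).index := hSodd
  obtain ⟨nS, hnS⟩ : ∃ n, Nat.card S = 2 ^ n := by
    haveI : Fact (Nat.Prime 2) := ⟨Nat.prime_two⟩
    exact IsPGroup.iff_card.1 hS
  have hS'card : Nat.card (S.subgroupOf T) = 2 ^ nS := by
    rw [Nat.card_congr (Subgroup.subgroupOfEquivOfLe hST).toEquiv, hnS]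
  obtain ⟨T₀, hT₀⟩ := Subgroup.exists_right_complement'_of_coprime (N := S.subgroupOf T)
    (by rw [hS'card]; exact (Nat.coprime_two_left.2 hTodd).pow_left nS)
  haveI := Fintype.ofFinite T
  haveI := Fintype.ofFinite T₀
  have hT₀card : Nat.card T₀ = (S.subgroupOf T).index := hT₀.symm.index_eq_card.symm
  have D : SideData (S.subgroupOf T) T₀ := ⟨inferInstance, hS.comap_subtype, hT₀.symm, hT₀card ▸ hTodd⟩
  have hET' : E.subgroupOf T ≤ S.subgroupOf T := fun x hx => hES hx
  set θT := resLin hNT θ with hθT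
  set εT := resLin hET ε with hεTdef
  have hεinv := resLin_invariant hET ε hεT
  have hN₀ : N.subgroupOf T ≤ T₀ := by
    intro a ha
    have ho : Odd (orderOf a) := by
      rw [← orderOf_coe a]
      exact hNodd.of_dvd_nat (N.orderOf_dvd_natCard ha)
    obtain ⟨x, hx, hxa⟩ := D.exists_conj_ret ho
    have e : x * a * x⁻¹ = a := by
      rw [mul_inv_eq_iff_eq_mul]
      exact Subtype.ext (hSN _ hx _ ha)
    rw [← e, hxa]
    exact (D.ret a).2
  set θ₀ := resLin hN₀ θT with hθ₀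
  have hθTinv : ∀ (g : T) (a : N.subgroupOf T) (h : g * a * g⁻¹ ∈ N.subgroupOf T),
      θT ⟨g * a * g⁻¹, h⟩ = θT a := subLin_invariant θ
  have hθ₀inv := resLin_invariant hN₀ θT fun g _ a h => hθTinv g a h
  -- the valuation rings
  obtain ⟨A₂, hA₂⟩ := exists_valuationSubring Nat.prime_two
  obtain ⟨Ar, hAr⟩ := exists_valuationSubring hr
  set c : G → ℂ := extendByZero H (linFun N (orbitLin θ)) with hc_def
  have hc : IdemFun H c := idemFun_extend (idemFun_orbitLin θ)
  have hcH : (fun a : H => c a) = linFun N (orbitLin θ) :=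
    funext fun a => extendByZero_mem H _ a.2
  have hcmem : ∀ A : ValuationSubring ℂ, (Nat.card N : ℂ)⁻¹ ∈ A → ∀ g, c g ∈ A := fun A hA g => by
    by_cases hg : g ∈ H
    · rw [hc_def, extendByZero_mem H _ hg]
      exact linFun_mem hA _
    · rw [hc.supp g hg]
      exact zero_mem A
  have hrN : ¬ r ∣ Nat.card N := fun h => hrT (h.trans (Subgroup.card_dvd_of_le hNT))
  have hm0 : 0 < Nat.card E - 1 := by
    have : 1 < Nat.card E := Subgroup.one_lt_card_iff_ne_bot _ |>.2 fun e => by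
      rw [e, Subgroup.mem_bot] at htE
      exact ht1 htE
    omega
  have hr2 : r ≠ 2 := by
    rintro rfl
    haveI : Fact (Nat.Prime 2) := ⟨Nat.prime_two⟩
    obtain ⟨k, hk⟩ := IsPGroup.iff_card.1 (hS.to_le hES)
    rw [hk] at hrm hm0
    rcases k with _ | k
    · simp at hm0
    · have h2 : 2 ∣ 2 ^ (k + 1) := dvd_pow_self 2 k.succ_ne_zero
      omega
  have hsupp : ∀ a x : H, c (a : G) ≠ 0 → Even (orderOf (x : G)) →
      Even (orderOf ((a : G) * (x : G))) := by
    intro a x ha hx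
    rw [orderOf_coe] at hx
    rw [← Subgroup.coe_mul, orderOf_coe]
    refine even_orderOf_mul hNodd ?_ hx
    by_contra haN
    exact ha (by rw [show c (a : G) = linFun N (orbitLin θ) a from congrFun hcH a,
      linFun_of_notMem haN])
  -- the two families
  haveI : Fintype (IrrCharacter T) := Fintype.ofFinite _
  haveI : Fintype (IrrCharacter T₀) := Fintype.ofFinite _
  let K : Type u := {κ : IrrCharacter T₀ // Over θ₀ (κ : T₀ → ℂ)}
  let L : Type u := {l : IrrCharacter T // Over θT (l : T → ℂ) ∧ Over εT (l : T → ℂ)}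
  let infl : K → IrrCharacter T := fun κ =>
    ⟨fun x => (κ.1 : T₀ → ℂ) (D.ret x), isIrrCharacter_comp_surjective κ.1.2 D.ret D.ret_surjective⟩
  have hinfl : ∀ κ, Over θT (infl κ : T → ℂ) := fun κ a x => by
    show (κ.1 : T₀ → ℂ) (D.ret ((a : T) * x)) = (θT a : ℂ) * (κ.1 : T₀ → ℂ) (D.ret x)
    rw [map_mul, show D.ret (a : T) = ⟨(a : T), hN₀ a.2⟩ from D.ret_coe ⟨(a : T), hN₀ a.2⟩]
    have h := κ.2 ⟨⟨(a : T), hN₀ a.2⟩, a.2⟩ (D.ret x)
    exact h
  let chr : K ⊕ L → IrrCharacter T := Sum.elim infl fun l => l.1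
  have hover : ∀ i, Over (subLin θ) (chr i : T → ℂ) := fun i => by
    rcases i with κ | l
    exacts [hinfl κ, l.2.1]
  let ψ : K ⊕ L → IrrCharacter H := fun i =>
    ⟨indFun T (chr i : T → ℂ), isIrr_indFun θ (chr i) (hover i)⟩
  have hψfix : ∀ i x, proj (linFun N (orbitLin θ)) (ψ i : H → ℂ) x = (ψ i : H → ℂ) x :=
    fun i x => proj_orbit_indFun θ (hover i) x
  choose d hd0 hd using fun i : K ⊕ L => isIrrCharacter_degree (chr i).2
  set e : ℕ := T.index with he
  have hψ1 : ∀ i, (ψ i : H → ℂ) 1 = (e : ℂ) * (d i : ℂ) := fun i => by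
    show indFun T (chr i : T → ℂ) 1 = _
    rw [indFun_one, hd]
  set m : ℕ := Nat.card E - 1 with hm
  have hm0' : (m : ℂ) ≠ 0 := by exact_mod_cast hm0.ne'
  let rr : K ⊕ L → ℂ := Sum.elim (fun _ => 1) fun _ => -(m : ℂ)⁻¹
  have hcardT : (Nat.card T : ℂ) ≠ 0 := by exact_mod_cast Nat.card_pos.ne'
  have hHT : (Nat.card H : ℂ) = (Nat.card T : ℂ) * (e : ℂ) := by
    exact_mod_cast T.card_mul_index.symm
  have hψt : ∀ i, (ψ i : H → ℂ) t = rr i * ((e : ℂ) * (d i : ℂ)) := by
    intro i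
    show indFun T (chr i : T → ℂ) t = _
    have hty : ∀ y : H, y⁻¹ * t * y ∈ E := fun y => by
      simpa using (inferInstance : E.Normal).conj_mem t htE y⁻¹
    rw [indFun, Finset.sum_congr rfl fun y _ => extendByZero_mem T _ (hET (hty y))]
    rcases i with κ | l
    · have h1 : ∀ y : H, (chr (Sum.inl κ) : T → ℂ) ⟨y⁻¹ * t * y, hET (hty y)⟩ = (d (Sum.inl κ) : ℂ) :=
        fun y => by
          rw [← hd]
          show (κ.1 : T₀ → ℂ) (D.ret _) = (κ.1 : T₀ → ℂ) (D.ret 1)
          rw [D.ret_of_mem (show (⟨y⁻¹ * t * y, hET (hty y)⟩ : T) ∈ S.subgroupOf T from hES (hty y)),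
            map_one]
      rw [Finset.sum_congr rfl fun y _ => h1 y, Finset.sum_const, Finset.card_univ, nsmul_eq_mul,
        ← Nat.card_eq_fintype_card, hHT]
      simp only [rr, Sum.elim_inl]
      field_simp
    · have h1 : ∀ y : H, (chr (Sum.inr l) : T → ℂ) ⟨y⁻¹ * t * y, hET (hty y)⟩ =
          (ε ⟨y⁻¹ * t * y, hty y⟩ : ℂ) * (d (Sum.inr l) : ℂ) := fun y => by
        have h2 := (l.2.2).apply ⟨⟨y⁻¹ * t * y, hET (hty y)⟩, hty y⟩
        rw [← hd]
        exact h2
      rw [Finset.sum_congr rfl fun y _ => h1 y, ← Finset.sum_mul]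
      haveI := Fintype.ofFinite E
      set Φ : E → ℂ := fun a => ∑ y : H, (ε ⟨y⁻¹ * a * y, by
        simpa using (inferInstance : E.Normal).conj_mem _ a.2 y⁻¹⟩ : ℂ) with hΦ
      have hconst : ∀ a : E, a ≠ 1 → Φ a = Φ ⟨t, htE⟩ := by
        intro a ha
        obtain ⟨g, hg⟩ := isConj_iff.1 (hEconj a a.2 fun e => ha (Subtype.ext e))
        refine Fintype.sum_equiv (Equiv.mulLeft g⁻¹) _ _ fun y => ?_
        refine congrArg (fun z : E => (ε z : ℂ)) (Subtype.ext ?_)
        show y⁻¹ * (a : H) * y = (g⁻¹ * y)⁻¹ * t * (g⁻¹ * y)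
        rw [← hg]
        group
      have hone : Φ 1 = (Nat.card H : ℂ) := by
        have : ∀ y : H, (ε ⟨y⁻¹ * ((1 : E) : H) * y, by simp⟩ : ℂ) = 1 := fun y => by
          rw [show (⟨y⁻¹ * ((1 : E) : H) * y, _⟩ : E) = 1 from Subtype.ext (by simp), map_one,
            Units.val_one]
        rw [hΦ]
        simp only [this]
        rw [Finset.sum_const, Finset.card_univ, nsmul_one, Nat.card_eq_fintype_card]
      have hzero : ∑ a : E, Φ a = 0 := by
        simp only [hΦ]
        rw [Finset.sum_comm]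
        refine Finset.sum_eq_zero fun y _ => ?_
        calc ∑ a : E, (ε ⟨y⁻¹ * a * y, _⟩ : ℂ) = ∑ a : E, (ε a : ℂ) :=
              Fintype.sum_equiv (MulAut.conjNormal (y⁻¹ : H) : MulAut E).toEquiv _ _ fun a => by
                refine congrArg (fun z : E => (ε z : ℂ)) (Subtype.ext ?_)
                show y⁻¹ * (a : H) * y = ((MulAut.conjNormal (y⁻¹ : H) : MulAut E) a : H)
                rw [MulAut.conjNormal_apply, inv_inv]
          _ = 0 := by rw [sum_hom_units, if_neg hε1]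
      rw [← Finset.add_sum_erase _ _ (Finset.mem_univ (1 : E)), hone,
        Finset.sum_congr rfl fun a ha => hconst a (Finset.ne_of_mem_erase ha), Finset.sum_const,
        Finset.card_erase_of_mem (Finset.mem_univ _), Finset.card_univ, ← Nat.card_eq_fintype_card,
        ← hm, nsmul_eq_mul] at hzero
      have hΦt : Φ ⟨t, htE⟩ = -((Nat.card T : ℂ) * (e : ℂ)) / (m : ℂ) := by
        rw [eq_div_iff hm0', ← hHT]
        linear_combination hzero
      show (Nat.card T : ℂ)⁻¹ * (Φ ⟨t, htE⟩ * (d (Sum.inr l) : ℂ)) = _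
      rw [hΦt]
      simp only [rr, Sum.elim_inr]
      field_simp
  have he0 : (e : ℂ) ≠ 0 := by exact_mod_cast Subgroup.index_ne_zero_of_finite
  have hdC : ∀ i, (d i : ℂ) ≠ 0 := fun i => by exact_mod_cast (hd0 i).ne'
  have hrr : ∀ i, rr i ≠ 0 := fun i => by rcases i with κ | l <;> simp [rr, hm0']
  have hψinj : Function.Injective ψ := by
    intro i j hij
    have hchr : chr i = chr j :=
      indFun_injective θ (chr i) (chr j) (hover i) (hover j) (congrArg Subtype.val hij)
    have hrij : rr i = rr j := by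
      have h1 := hψt i
      rw [hij, hψt j] at h1
      have h2 : (e : ℂ) * (d i : ℂ) = (e : ℂ) * (d j : ℂ) := by rw [← hψ1, ← hψ1, hij]
      rw [h2] at h1
      exact (mul_right_cancel₀ (mul_ne_zero he0 (hdC j)) h1).symm
    have hsep : (1 : ℂ) ≠ -(m : ℂ)⁻¹ := fun h => by
      have : (m : ℂ) = -1 := by
        field_simp at h
        linear_combination h
      have h3 : ((m + 1 : ℕ) : ℂ) = 0 := by push_cast; linear_combination this
      exact absurd (Nat.cast_eq_zero.1 h3) (by omega)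
    rcases i with κ | l <;> rcases j with κ' | l'
    · refine congrArg Sum.inl (Subtype.ext (Subtype.ext (funext fun k => ?_)))
      have := congrFun (congrArg Subtype.val hchr) (k : T)
      simpa [chr, infl, D.ret_coe] using this
    · exact absurd hrij hsep
    · exact absurd hrij.symm hsep
    · exact congrArg Sum.inr (Subtype.ext hchr)
  haveI : Fintype K := Fintype.ofFinite _
  haveI : Fintype L := Fintype.ofFinite _
  obtain ⟨X, σ, hX0, hσ, hXle, hymem, heq⟩ := exists_pairs (ι := K ⊕ L) ht ht1 heven hconj hodd hc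
    (hcmem A₂ (inv_natCast_mem hA₂ Nat.prime_two fun h => Nat.not_even_iff_odd.2 hNodd
      (even_iff_two_dvd.2 h))) hA₂ hsupp ψ (fun i => τ (ψ i)) hψinj
    (fun i j h => hψinj (hτinj _ _ (hψfix i) (hψfix j) h))
    (fun i x => by rw [hcH]; exact hψfix i x) (fun i x => by rw [hcH]; exact (hτ _ (hψfix i)).1 x)
    (fun i => (hτ _ (hψfix i)).2.1) (fun i => (hτ _ (hψfix i)).2.2.1)
    (fun i => (hτ _ (hψfix i)).2.2.2)
    (fun i => by rw [hψt]; exact mul_ne_zero (hrr i) (mul_ne_zero he0 (hdC i)))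
  set n : ℕ := H.index with hn_def
  have hn0 : (n : ℂ) ≠ 0 := by exact_mod_cast Subgroup.index_ne_zero_of_finite
  let y : K ⊕ L → ℚ := fun i => (σ i : ℚ) * n * e * d i / X i
  have hyC : ∀ i, (y i : ℂ) = (σ i : ℂ) * n * e * d i / X i := fun i => by simp [y]
  have hσ0 : ∀ i, (σ i : ℂ) ≠ 0 := fun i => by rcases hσ i with h | h <;> simp [h]
  have hXC : ∀ i, (X i : ℂ) ≠ 0 := fun i => by exact_mod_cast (hX0 i).ne'
  have hy0 : ∀ i, y i ≠ 0 := fun i h => by
    have h' : (y i : ℂ) = 0 := by rw [h, Rat.cast_zero]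
    rw [hyC] at h'
    simp [hσ0 i, hn0, he0, hdC i, hXC i] at h'
  have hyA : ∀ i, (y i : ℂ) ∈ Ar := fun i => by
    have := hymem i Ar (hcmem Ar (inv_natCast_mem hAr hr hrN))
    rw [hψ1] at this
    rw [hyC]
    convert this using 1
    ring
  -- multiplicities
  have hnat : ∀ (κ : K) (l : L), ∃ k : ℕ, resMult κ.1 l.1 = k := fun κ l => exists_nat_resMult _ _
  have hsumK : ∀ (l : L) (f : IrrCharacter T₀ → ℂ),
      ∑ κ : IrrCharacter T₀, resMult κ l.1 * f κ = ∑ κ : K, resMult κ.1 l.1 * f κ.1 := by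
    intro l f
    have hkill : ∀ κ : IrrCharacter T₀, ¬ Over θ₀ (κ : T₀ → ℂ) → resMult κ l.1 = 0 := fun κ hκ => by
      have h1 : classInner (fun k : T₀ => (l.1 : T → ℂ) k) (κ : T₀ → ℂ) = 0 :=
        classInner_eq_zero_of_killed (Over.res hN₀ θT l.2.1)
          ((over_or_killed hθ₀inv κ.2).resolve_left hκ)
      rw [resMult, ← classInner_conj, h1, map_zero]
    rw [← Finset.sum_subtype (Finset.univ.filter fun κ : IrrCharacter T₀ => Over θ₀ (κ : T₀ → ℂ))
      (fun κ => by simp) fun κ => resMult κ l.1 * f κ]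
    refine (Finset.sum_subset (Finset.subset_univ _) fun κ _ hκ => ?_).symm
    simp only [Finset.mem_filter, Finset.mem_univ, true_and] at hκ
    rw [hkill κ hκ, zero_mul]
  -- the equations
  have heqs : ∀ l : L,
      (d (Sum.inr l) : ℂ) * ((y (Sum.inr l) : ℂ) - 1) = (m : ℂ) ^ 2 * ∑ κ : K, resMult κ.1 l.1 *
          ((d (Sum.inl κ) : ℂ) * ((y (Sum.inl κ) : ℂ) - 1)) ∧
        (d (Sum.inr l) : ℂ) * ((y (Sum.inr l) : ℂ)⁻¹ - 1) = ∑ κ : K, resMult κ.1 l.1 *
          ((d (Sum.inl κ) : ℂ) * ((y (Sum.inl κ) : ℂ)⁻¹ - 1)) := by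
    intro l
    let b : K ⊕ L → ℂ := Sum.elim (fun κ => -resMult κ.1 l.1) fun l' => if l' = l then 1 else 0
    have hb : ∀ f : K ⊕ L → ℂ, ∑ i, b i * f i =
        f (Sum.inr l) - ∑ κ : K, resMult κ.1 l.1 * f (Sum.inl κ) := fun f => by
      rw [Fintype.sum_sum_type]
      simp only [b, Sum.elim_inl, Sum.elim_inr, ite_mul, one_mul, zero_mul, neg_mul,
        Finset.sum_neg_distrib]
      rw [Finset.sum_eq_single l (fun l' _ h => if_neg h) (by simp), if_pos rfl]
      ring
    have hbodd : ∀ h : H, ¬ Even (orderOf (h : G)) → ∑ i, b i * (ψ i : H → ℂ) h = 0 := by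
      intro h hh
      rw [hb, sub_eq_zero]
      show indFun T (l.1 : T → ℂ) h = ∑ κ : K, resMult κ.1 l.1 * indFun T (infl κ : T → ℂ) h
      simp only [indFun, Finset.mul_sum]
      rw [Finset.sum_comm]
      refine Finset.sum_congr rfl fun z _ => ?_
      by_cases hz : z⁻¹ * h * z ∈ T
      · simp only [extendByZero_mem T _ hz]
        have hzodd : Odd (orderOf (⟨z⁻¹ * h * z, hz⟩ : T)) := by
          rw [orderOf_mk, show z⁻¹ * h * z = MulAut.conj z⁻¹ h by simp, MulEquiv.orderOf_eq,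
            ← orderOf_coe h]
          exact Nat.not_even_iff_odd.1 hh
        rw [D.apply_ret (isClassFunction_irr l.1) hzodd, res_eq_sum l.1,
          hsumK l fun κ => (κ : T₀ → ℂ) (D.ret ⟨z⁻¹ * h * z, hz⟩), Finset.mul_sum]
        exact Finset.sum_congr rfl fun κ _ => by
          show _ = resMult κ.1 l.1 * ((Nat.card T : ℂ)⁻¹ *
            (κ.1 : T₀ → ℂ) (D.ret ⟨z⁻¹ * h * z, hz⟩))
          ring
      · simp [extendByZero_not_mem T _ hz]
    obtain ⟨h1, h2⟩ := heq b hbodd
    have h3 : ∑ i, b i * (ψ i : H → ℂ) 1 = 0 := hbodd 1 (by simp)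
    have e1 : ∀ i, (n : ℂ) * (b i * (σ i : ℂ) * (ψ i : H → ℂ) t ^ 2 / (X i : ℂ)) -
        b i * (ψ i : H → ℂ) t ^ 2 / (ψ i : H → ℂ) 1 =
          (e : ℂ) * (b i * (rr i ^ 2 * ((d i : ℂ) * ((y i : ℂ) - 1)))) := fun i => by
      have := hdC i
      have := hXC i
      rw [hψt, hψ1, hyC]
      field_simp
    have h1' : ∑ i, b i * (rr i ^ 2 * ((d i : ℂ) * ((y i : ℂ) - 1))) = 0 := by
      refine (mul_eq_zero.1 ?_).resolve_left he0
      rw [Finset.mul_sum, ← Finset.sum_congr rfl fun i _ => e1 i, Finset.sum_sub_distrib,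
        ← Finset.mul_sum, h1, sub_self]
    have e2 : ∀ i, b i * (σ i : ℂ) * (X i : ℂ) - (n : ℂ) * (b i * (ψ i : H → ℂ) 1) =
        (n : ℂ) * (e : ℂ) * (b i * ((d i : ℂ) * ((y i : ℂ)⁻¹ - 1))) := fun i => by
      have := hdC i
      have := hXC i
      have := hσ0 i
      have hσσ : (σ i : ℂ) * (σ i : ℂ) = 1 := by rcases hσ i with h | h <;> simp [h]
      rw [hψ1, hyC]
      field_simp
      linear_combination (b i * (X i : ℂ)) * hσσ
    have h2' : ∑ i, b i * ((d i : ℂ) * ((y i : ℂ)⁻¹ - 1)) = 0 := by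
      refine (mul_eq_zero.1 ?_).resolve_left (mul_ne_zero hn0 he0)
      rw [Finset.mul_sum, ← Finset.sum_congr rfl fun i _ => e2 i, Finset.sum_sub_distrib,
        ← Finset.mul_sum, h2, h3, mul_zero, sub_zero]
    rw [hb, sub_eq_zero] at h1' h2'
    refine ⟨?_, h2'⟩
    simp only [rr, Sum.elim_inl, Sum.elim_inr, one_pow, one_mul] at h1'
    rw [← h1', ← mul_assoc, neg_sq, inv_pow, mul_inv_cancel₀ (pow_ne_zero 2 hm0'), one_mul]
  -- the contraction
  have hd' : ∀ l : L, ¬ r ∣ d (Sum.inr l) := fun l h =>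
    hrT (h.trans (degree_dvd_card (chr (Sum.inr l)) (hd (Sum.inr l))))
  have h2A : (2 : ℂ)⁻¹ ∈ Ar := by
    have := inv_natCast_mem hAr hr (k := 2) fun h => hr2 ((Nat.prime_dvd_prime_iff_eq hr Nat.prime_two).1 h)
    simpa using this
  have hinj : ∀ a : K → ℂ, (∀ l : L, ∑ κ : K, resMult κ.1 l.1 * a κ ∈ Ar) → ∀ κ, a κ ∈ Ar := by
    intro a ha κ
    let a' : IrrCharacter T₀ → ℂ := fun k => if h : Over θ₀ (k : T₀ → ℂ) then a ⟨k, h⟩ else 0
    have h := D.integral_of_inner hET' hεinv Ar h2A a' (fun l hl => ?_) κ.1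
    · simpa [a', κ.2] using h
    · by_cases hlθ : Over θT (l : T → ℂ)
      · rw [hsumK ⟨l, hlθ, hl⟩ a']
        convert ha ⟨l, hlθ, hl⟩ using 1
        exact Finset.sum_congr rfl fun k _ => by simp [a', k.2]
      · have hz : ∀ k : IrrCharacter T₀, resMult k l * a' k = 0 := fun k => by
          by_cases hk : Over θ₀ (k : T₀ → ℂ)
          · rw [resMult, classInner_eq_zero_of_killed hk fun x => by
              rw [hθ₀, proj_res hN₀ θT (l : T → ℂ) x]
              exact ((over_or_killed hθTinv l.2).resolve_left hlθ) (x : T), zero_mul]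
          · simp [a', hk]
        rw [Finset.sum_eq_zero fun k _ => hz k]
        exact zero_mem Ar
  have hy1 := contraction hr hAr hrm (fun (κ : K) (l : L) => resMult κ.1 l.1) hnat
    (fun κ => d (Sum.inl κ)) (fun l => d (Sum.inr l)) (fun κ => (hd0 _).ne') hd'
    (fun κ => y (Sum.inl κ)) (fun l => y (Sum.inr l)) (fun κ => hyA _) (fun l => hyA _)
    (fun κ => hy0 _) (fun l => hy0 _) hinj (fun l => (heqs l).1) (fun l => (heqs l).2)
  -- the final inequality
  have hX : ∀ κ : K, (X (Sum.inl κ) : ℕ) = n * e * d (Sum.inl κ) := by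
    intro κ
    have h : (y (Sum.inl κ) : ℂ) = 1 := by exact_mod_cast hy1 κ
    rw [hyC, div_eq_one_iff_eq (hXC _)] at h
    rcases hσ (Sum.inl κ) with h' | h'
    · rw [h', Int.cast_one, one_mul] at h
      exact_mod_cast h.symm
    · exfalso
      rw [h', Int.cast_neg, Int.cast_one, neg_one_mul] at h
      have h4 : ((X (Sum.inl κ) + n * e * d (Sum.inl κ) : ℕ) : ℂ) = 0 := by
        push_cast
        linear_combination -h
      have := Nat.cast_eq_zero.1 h4
      have := hX0 (Sum.inl κ)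
      omega
  have hsum : (∑ κ : K, d (Sum.inl κ) ^ 2 : ℕ) = ((N.subgroupOf T).subgroupOf T₀).index := by
    have h := sum_degree_sq_over (θ := θ₀) hθ₀inv
    rw [← Finset.sum_filter, Finset.sum_subtype (p := fun κ : IrrCharacter T₀ => Over θ₀ (κ : T₀ → ℂ))
      _ (fun κ => by simp)] at h
    have h' : ((∑ κ : K, d (Sum.inl κ) ^ 2 : ℕ) : ℂ) =
        (((N.subgroupOf T).subgroupOf T₀).index : ℂ) := by
      push_cast
      rw [← h]
      refine Finset.sum_congr rfl fun κ _ => ?_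
      rw [← hd]
      simp [chr, infl]
    exact_mod_cast h'
  have hineq : (n * e) ^ 2 * ((N.subgroupOf T).subgroupOf T₀).index ≤ Nat.card G := by
    refine le_trans ?_ hXle
    rw [← hsum, Finset.mul_sum, Fintype.sum_sum_type]
    refine le_add_right (le_of_eq (Finset.sum_congr rfl fun κ _ => ?_))
    rw [hX]
    ring
  have hNidx : ((N.subgroupOf T).subgroupOf T₀).index * Nat.card N = Nat.card T₀ := by
    have h := ((N.subgroupOf T).subgroupOf T₀).index_mul_card
    rwa [Nat.card_congr (Subgroup.subgroupOfEquivOfLe hN₀).toEquiv,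
      Nat.card_congr (Subgroup.subgroupOfEquivOfLe hNT).toEquiv] at h
  have hT₀S : Nat.card T₀ * Nat.card S = Nat.card T := by
    rw [hT₀card, ← Nat.card_congr (Subgroup.subgroupOfEquivOfLe hST).toEquiv, Subgroup.index_mul_card]
  have hG : Nat.card T * e * n = Nat.card G := by
    rw [he, T.card_mul_index, hn_def, H.card_mul_index]
  set I := ((N.subgroupOf T).subgroupOf T₀).index with hI
  have hI0 : 0 < I := Nat.pos_of_ne_zero Subgroup.index_ne_zero_of_finite
  have he1 : 0 < e := Nat.pos_of_ne_zero Subgroup.index_ne_zero_of_finite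
  have hn1 : 0 < n := Nat.pos_of_ne_zero Subgroup.index_ne_zero_of_finite
  have h1 : (n * e) ^ 2 * I ≤ Nat.card S * Nat.card N * (n * e * I) := by
    refine hineq.trans (le_of_eq ?_)
    rw [← hG, ← hT₀S, ← hNidx]
    ring
  have h2 : n * e ≤ Nat.card S * Nat.card N := by
    refine Nat.le_of_mul_le_mul_right (c := n * e * I) ?_ (by positivity)
    calc n * e * (n * e * I) = (n * e) ^ 2 * I := by ring
      _ ≤ _ := h1
  have h5 : n ≤ n * e := Nat.le_mul_of_pos_right n he1
  omega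

end CfsgLib.Bender.End
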