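import Cfsg.Agent.Lib.Bender.End.Orbit
import Cfsg.Agent.Lib.Char.BlichfeldtPi

/-!
# Galois twists of the characters over an orbit of linear characters

An automorphism of `ℂ` fixing the roots of unity of order prime to `p` fixes the character values at
the elements of order prime to `p`; if it raises the values of `θ` to a power which is no conjugate of
`θ`, the twists of the characters over the orbit of `θ` are killed by that orbit.
-/

set_option autoImplicit false
set_option linter.unusedSectionVars false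

namespace CfsgLib.Bender.End

open Cfsg CfsgLib.Char Subgroup

universe u

variable {G : Type u} [Group G] [Fintype G]

/-- A character value at an element of order prime to `p` is fixed. -/
theorem galois_apply_eq {p : ℕ} (τ : ℂ ≃+* ℂ)
    (hfix : ∀ y : ℂ, ∀ m : ℕ, m ∣ Nat.card G → ¬ p ∣ m → y ^ m = 1 → τ y = y)
    (ψ : IrrCharacter G) {g : G} (hg : ¬ p ∣ orderOf g) :
    τ ((ψ : G → ℂ) g) = (ψ : G → ℂ) g := by
  obtain ⟨d, ρ, -, hψ⟩ := ψ.2
  obtain ⟨b, μ, h1, -, h3⟩ := exists_eigen_data ρ g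
  have e : (ψ : G → ℂ) g = ∑ i, μ i := by
    rw [← hψ, ← pow_one g, h3]
    simp only [pow_one]
  rw [e, map_sum]
  exact Finset.sum_congr rfl fun i _ => hfix _ _ (orderOf_dvd_natCard g) hg (h1 i)

/-- The projection on a set of linear characters is the sum of the projections. -/
theorem proj_linFun_sum {N : Subgroup G} (Θ : Finset (N →* ℂˣ)) (f : G → ℂ) (x : G) :
    proj (linFun N Θ) f x = ∑ φ ∈ Θ, proj (linFun N {φ}) f x := by
  classical
  simp only [proj]
  rw [Finset.sum_comm]
  refine Finset.sum_congr rfl fun a _ => ?_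
  by_cases ha : a ∈ N
  · simp only [linFun_of_mem ha, Finset.sum_singleton, Finset.mul_sum, Finset.sum_mul]
  · simp [linFun_of_notMem ha]

variable {N : Subgroup G} [N.Normal]

/-- The twist of a function over the orbit of `θ` is killed by that orbit. -/
theorem proj_galois_eq_zero (θ : N →* ℂˣ) {a : ℕ} (τ : ℂ ≃+* ℂ)
    (hτ : ∀ v : N, τ (θ v : ℂ) = (θ v : ℂ) ^ a)
    (hmoved : ∀ g : G, ∃ v : N, conjLin θ g v ≠ θ v ^ a) {f : G → ℂ}
    (hf : ∀ x, proj (linFun N (orbitLin θ)) f x = f x) (x : G) :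
    proj (linFun N (orbitLin θ)) (fun y => τ (f y)) x = 0 := by
  classical
  have hτf : (fun y => τ (f y)) =
      fun y => ∑ φ' ∈ orbitLin θ, τ (proj (linFun N {φ'}) f y) := funext fun y => by
    rw [← map_sum, ← proj_linFun_sum, hf]
  rw [proj_linFun_sum, hτf]
  refine Finset.sum_eq_zero fun φ hφ => ?_
  rw [show proj (linFun N {φ}) (fun y => ∑ φ' ∈ orbitLin θ, τ (proj (linFun N {φ'}) f y)) x =
    ∑ φ' ∈ orbitLin θ, proj (linFun N {φ}) (fun y => τ (proj (linFun N {φ'}) f y)) x by
      simp only [proj, Finset.mul_sum]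
      exact Finset.sum_comm]
  refine Finset.sum_eq_zero fun φ' hφ' => ?_
  obtain ⟨h, -, rfl⟩ := Finset.mem_image.1 hφ
  obtain ⟨k, -, rfl⟩ := Finset.mem_image.1 hφ'
  haveI := Fintype.ofFinite N
  set F := fun y => τ (proj (linFun N {conjLin θ k}) f y) with hF
  have hover : ∀ (v : N) (y : G), F ((v : G) * y) = ((conjLin θ k v : ℂˣ) : ℂ) ^ a * F y := fun v y => by
    show τ (proj (linFun N {conjLin θ k}) f ((v : G) * y)) = _
    rw [show proj (linFun N {conjLin θ k}) f ((v : G) * y) =
      (conjLin θ k v : ℂ) * proj (linFun N {conjLin θ k}) f y from over_proj f v y, map_mul]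
    congr 1
    exact hτ ((MulAut.conjNormal k : MulAut N) v)
  set χ : N →* ℂˣ := (conjLin θ h)⁻¹ * conjLin θ k ^ a with hχ
  rw [proj_single, show (∑ v : N, (((conjLin θ h v)⁻¹ : ℂˣ) : ℂ) * F ((v : G) * x)) =
    (∑ v : N, (χ v : ℂ)) * F x by
      rw [Finset.sum_mul]
      refine Finset.sum_congr rfl fun v _ => ?_
      rw [hover, hχ, ← mul_assoc]
      simp]
  rw [sum_hom_units, if_neg, zero_mul, mul_zero]
  intro e
  have h1 : ∀ v : N, conjLin θ h v = conjLin θ k v ^ a := fun v => by
    have := DFunLike.congr_fun e v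
    simpa [hχ, inv_mul_eq_one] using this
  obtain ⟨v, hv⟩ := hmoved (h * k⁻¹)
  refine hv ?_
  have h2 := h1 ((MulAut.conjNormal k⁻¹ : MulAut N) v)
  have e1 : conjLin θ k ((MulAut.conjNormal k⁻¹ : MulAut N) v) = θ v :=
    congrArg θ (Subtype.ext (by simp [mul_assoc]))
  have e2 : conjLin θ h ((MulAut.conjNormal k⁻¹ : MulAut N) v) = conjLin θ (h * k⁻¹) v :=
    congrArg θ (Subtype.ext (by simp [mul_assoc]))
  rwa [e1, e2] at h2

end CfsgLib.Bender.End
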