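import Mathlib

/-!
# Traces of congruent idempotent matrices

Two idempotent matrices over a local domain which agree modulo the maximal ideal have the same
trace; consequently an element of even order acting on a relatively projective summand has trace
zero (`trace_eq_zero`).
-/

set_option autoImplicit false

namespace CfsgLib.Bender.End

open Matrix

variable {R : Type*} [CommRing R] [IsLocalRing R] {d : Type*} [Fintype d] [DecidableEq d]

/-- Congruent idempotents have equal traces. -/
theorem trace_eq_of_idem_congr {E F : Matrix d d R} (hE : E * E = E) (hF : F * F = F)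
    (h : E.map (IsLocalRing.residue R) = F.map (IsLocalRing.residue R)) :
    E.trace = F.trace := by
  set U := E * F + (1 - E) * (1 - F) with hU
  have hEU : E * U = U * F := by
    have h1 : E * (1 - E) = 0 := by rw [mul_sub, mul_one, hE, sub_self]
    have h2 : (1 - F) * F = 0 := by rw [sub_mul, one_mul, hF, sub_self]
    rw [hU, mul_add, add_mul, ← mul_assoc E E, hE, ← mul_assoc E (1 - E), h1, zero_mul,
      mul_assoc E F F, hF, mul_assoc (1 - E) (1 - F) F, h2, mul_zero]
  have hmap : U.map (IsLocalRing.residue R) = 1 := by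
    let f : Matrix d d R →+* Matrix d d (IsLocalRing.ResidueField R) :=
      (IsLocalRing.residue R).mapMatrix
    show f U = 1
    have h' : f E = f F := h
    have hFF : f F * f F = f F := by rw [← map_mul, hF]
    have h1 : (1 - f F) * (1 - f F) = 1 - f F := by
      rw [mul_sub, mul_one, sub_mul, one_mul, hFF, sub_self, sub_zero]
    rw [hU, map_add, map_mul, map_mul, map_sub, map_sub, map_one, h', hFF, h1, add_sub_cancel]
  have hdet : IsUnit U.det := by
    refine IsLocalRing.notMem_maximalIdeal.1 fun hm => ?_
    have h1 : IsLocalRing.residue R U.det = 0 := (IsLocalRing.residue_eq_zero_iff _).2 hm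
    rw [RingHom.map_det] at h1
    have h2 : (IsLocalRing.residue R).mapMatrix U = 1 := hmap
    rw [h2, det_one] at h1
    exact one_ne_zero h1
  have hu : IsUnit U := (Matrix.isUnit_iff_isUnit_det U).2 hdet
  obtain ⟨u, hu⟩ := hu
  have hF' : F = (u⁻¹ : (Matrix d d R)ˣ) * E * u := by
    rw [mul_assoc, hu, hEU, ← hu, ← mul_assoc, Units.inv_mul, one_mul]
  rw [hF', trace_mul_cycle, Units.mul_inv, one_mul]

section

variable {K : Type*} [Field K] [CharZero K] {R : Subring K} [IsLocalRing R]
  {N : ℕ} [NeZero N]

/-- If `P = ∑ f(i) w f(-i)` for a representation `f` of `ZMod N`, `N` even, then `f 1` has trace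
zero on the image of the idempotent `P`. -/
theorem trace_eq_zero (hN : Even N) {ζ : R} (hζ : IsPrimitiveRoot ζ N)
    (h2 : (2 : R) ∈ IsLocalRing.maximalIdeal R) {f : ZMod N → Matrix d d R}
    (hadd : ∀ a b, f (a + b) = f a * f b) (hzero : f 0 = 1) {P w : Matrix d d R}
    (hP : P * P = P) (hcomm : ∀ a, f a * P = P * f a) (hwP : w * P = w)
    (hsum : ∑ a : ZMod N, f a * w * f (-a) = P) : (P * f 1).trace = 0 := by
  classical
  -- the twisted idempotents
  set lam : ZMod N → ZMod N → R := fun j a => ζ ^ (j * a).val with hlam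
  have hlam_add : ∀ j a b, lam j (a + b) = lam j a * lam j b := fun j a b => by
    simp only [hlam, mul_add, ← pow_add]
    rw [ZMod.val_add]
    exact (hζ.eq_orderOf ▸ pow_mod_orderOf ζ _ : _)
  set F : ZMod N → Matrix d d R := fun j => ∑ a, lam j a • (w * f a) with hF
  have hidem : ∀ j, F j * F j = F j := by
    intro j
    show (∑ a, lam j a • (w * f a)) * (∑ b, lam j b • (w * f b)) = ∑ c, lam j c • (w * f c)
    rw [Finset.sum_mul_sum]
    simp only [smul_mul_assoc, mul_smul_comm, smul_smul]
    calc ∑ a, ∑ b, (lam j b * lam j a) • (w * f a * (w * f b))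
        = ∑ a, ∑ c, lam j c • (w * f a * (w * f (c - a))) := by
          refine Finset.sum_congr rfl fun a _ => ?_
          refine Fintype.sum_equiv (Equiv.addLeft a) _ _ fun b => ?_
          simp [← hlam_add, add_comm]
      _ = ∑ c, lam j c • (w * ((∑ a, f a * w * f (-a)) * f c)) := by
          rw [Finset.sum_comm]
          refine Finset.sum_congr rfl fun c _ => ?_
          rw [Finset.sum_mul, Finset.mul_sum, Finset.smul_sum]
          refine Finset.sum_congr rfl fun a _ => ?_
          rw [sub_eq_neg_add, hadd]
          simp only [mul_assoc]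
      _ = ∑ c, lam j c • (w * f c) := by
          refine Finset.sum_congr rfl fun c _ => ?_
          rw [hsum, ← mul_assoc, hwP]
  -- traces
  have htr : ∀ a, (N : R) * (w * f a).trace = (P * f a).trace := by
    intro a
    have h1 : ∀ i, (f i * w * f (-i) * f a).trace = (w * f a).trace := fun i => by
      rw [mul_assoc (f i * w), ← hadd, mul_assoc (f i), trace_mul_comm, mul_assoc, ← hadd]
      congr 2
      abel_nf
    rw [← hsum, Finset.sum_mul, trace_sum, Finset.sum_congr rfl fun i _ => h1 i, Finset.sum_const,
      Finset.card_univ, ZMod.card, nsmul_eq_mul]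
  have hFtr : ∀ j, (N : R) * (F j).trace = ∑ a, lam j a * (P * f a).trace := by
    intro j
    simp only [hF, trace_sum, trace_smul, smul_eq_mul, Finset.mul_sum]
    exact Finset.sum_congr rfl fun a _ => by rw [← htr a]; ring
  -- Fourier inversion
  have horth : ∀ a : ZMod N, ∑ j, lam j a = if a = 0 then (N : R) else 0 := by
    intro a
    split_ifs with ha
    · simp [hlam, ha, ZMod.card]
    · have h1 : ∑ j, lam j a = lam 1 a * ∑ j, lam j a := by
        rw [Finset.mul_sum]
        refine (Fintype.sum_equiv (Equiv.addLeft (1 : ZMod N)) _ _ fun j => ?_).symm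
        simp only [Equiv.coe_addLeft, hlam, add_mul, ← pow_add]
        rw [ZMod.val_add]
        exact (hζ.eq_orderOf ▸ pow_mod_orderOf ζ _ : _).symm
      have h2 : lam 1 a ≠ 1 := by
        simp only [hlam, one_mul, ne_eq, hζ.pow_eq_one_iff_dvd]
        intro hd
        exact ha ((ZMod.val_eq_zero a).1 (Nat.eq_zero_of_dvd_of_lt hd (ZMod.val_lt a)))
      by_contra h0
      exact h2 (mul_right_cancel₀ h0 (by rw [← h1, one_mul]))
  have hinv : (N : R) * (P * f 1).trace = ∑ j, lam j (-1) * ((N : R) * (F j).trace) := by
    simp only [hFtr, Finset.mul_sum]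
    rw [Finset.sum_comm]
    simp only [← mul_assoc, ← hlam_add, ← Finset.sum_mul, horth]
    rw [Finset.sum_eq_single (1 : ZMod N)]
    · simp
    · intro a _ ha
      rw [if_neg, zero_mul]
      intro h
      exact ha (by linear_combination h)
    · simp
  -- the sign
  obtain ⟨k, hk⟩ := hN
  set s : ZMod N := (k : ZMod N) with hs
  have hsign : ∀ j a, lam (j + s) a = (if Even a.val then 1 else -1) * lam j a := by
    intro j a
    have e : lam (j + s) a = lam j a * lam s a := by
      simp only [hlam, add_mul, ← pow_add]
      rw [ZMod.val_add]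
      exact (hζ.eq_orderOf ▸ pow_mod_orderOf ζ _ : _)
    have hN0 : 0 < N := Nat.pos_of_ne_zero (NeZero.ne N)
    have hk0 : k < N := by omega
    have hζk : ζ ^ k = -1 := by
      have h1 : (ζ ^ k) * (ζ ^ k) = 1 := by rw [← pow_add, ← hk, hζ.pow_eq_one]
      rcases mul_self_eq_one_iff.1 h1 with h | h
      · exact absurd h (hζ.pow_ne_one_of_pos_of_lt (by omega) hk0)
      · exact h
    have h1 : lam s a = (ζ ^ k) ^ a.val := by
      simp only [hlam, hs, ← pow_mul]
      have h2 : ((k : ZMod N) * a).val ≡ k * a.val [MOD orderOf ζ] := by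
        rw [← hζ.eq_orderOf, ZMod.val_mul, ZMod.val_natCast, Nat.mod_eq_of_lt hk0]
        exact Nat.mod_modEq _ _
      rw [← pow_mod_orderOf ζ (((k : ZMod N) * a).val), h2, pow_mod_orderOf]
    rw [e, h1, hζk, mul_comm, neg_one_pow_eq_ite]
  have hres : (IsLocalRing.residue R) (-1) = 1 := by
    have h1 : IsLocalRing.residue R 2 = 0 := (IsLocalRing.residue_eq_zero_iff _).2 h2
    have h3 : IsLocalRing.residue R (-1) + IsLocalRing.residue R 2 = IsLocalRing.residue R 1 := by
      rw [← map_add]; norm_num
    rwa [h1, add_zero, map_one] at h3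
  have hcongr : ∀ j, (F (j + s)).trace = (F j).trace := by
    intro j
    refine trace_eq_of_idem_congr (hidem _) (hidem _) ?_
    show (IsLocalRing.residue R).mapMatrix (F (j + s)) = (IsLocalRing.residue R).mapMatrix (F j)
    simp only [hF, map_sum]
    refine Finset.sum_congr rfl fun a _ => ?_
    ext x y
    simp only [RingHom.mapMatrix_apply, map_apply, Matrix.smul_apply, smul_eq_mul, map_mul, hsign]
    split_ifs <;> simp [hres]
  have hzero' : (N : R) * (P * f 1).trace = -((N : R) * (P * f 1).trace) := by
    conv_rhs => rw [hinv]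
    rw [hinv, ← Finset.sum_neg_distrib]
    refine (Fintype.sum_equiv (Equiv.addRight s) _ _ fun j => ?_).symm
    simp only [Equiv.coe_addRight, hcongr, hsign]
    have hodd : ¬ Even (-1 : ZMod N).val := by
      rw [show (-1 : ZMod N).val = N - 1 by
        obtain ⟨n, rfl⟩ := Nat.exists_eq_succ_of_ne_zero (NeZero.ne N)
        rw [ZMod.val_neg_one, Nat.succ_sub_one]]
      intro h
      have : 2 ∣ N - 1 := even_iff_two_dvd.1 h
      have := Nat.pos_of_ne_zero (NeZero.ne N)
      omega
    rw [if_neg hodd]
    ring
  have h0 : (N : R) * (P * f 1).trace = 0 := by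
    have hK := congrArg (fun z : R => (z : K)) hzero'
    simp only [Subring.coe_neg] at hK
    exact Subtype.ext (by simpa using self_eq_neg.1 hK)
  rcases mul_eq_zero.1 h0 with h | h
  · exact absurd (congrArg (fun z : R => (z : K)) h) (by simpa using NeZero.ne N)
  · exact h

end

end CfsgLib.Bender.End
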