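import Cfsg.Agent.Lib.Char.TransLinear.Main
import Cfsg.Agent.S0205

/-!
# Groups of odd order transitive on lines

A group of odd order acting faithfully on a space over the field of `p` elements, transitively on its lines,
with an element of order `p` fixing a single line, has a normal Sylow subgroup for each prime other than `p`.
-/

set_option autoImplicit false
set_option linter.style.haveILetI false

namespace CfsgLib.Bender.End

open Module
open CfsgLib.Char (toEndHom toEndHom_injective toEndHom_mem_spanAlg spanAlg spanAlg_isField spanAlg_data galHom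
  galHom_ker card_sub_one_dvd_of_transitive transLinear_cases card_algEquiv_of_isField finite_moduleEnd)

variable {p : ℕ} [Fact p.Prime] {V : Type*} [AddCommGroup V] [Module (ZMod p) V] [Finite V]

/-- a space on which a map of order `p` fixes one line has dimension at most `p` -/
theorem finrank_le_of_fixed_line (e : V ≃ₗ[ZMod p] V) (he : e ^ p = 1)
    (hfix : Nat.card {v : V // e v = v} = p) : finrank (ZMod p) V ≤ p := by
  haveI : Module.Finite (ZMod p) V := Module.Finite.of_finite
  have hp := (Fact.out : p.Prime)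
  haveI : Nontrivial {v : V // e v = v} := Finite.one_lt_card_iff_nontrivial.1 (by rw [hfix]; exact hp.one_lt)
  haveI : Nontrivial V := (Subtype.val_injective (p := fun v : V => e v = v)).nontrivial
  haveI : CharP (Module.End (ZMod p) V) p :=
    charP_of_injective_algebraMap (algebraMap (ZMod p) (Module.End (ZMod p) V)).injective p
  let a : Module.End (ZMod p) V := e.toLinearMap
  have ha : ∀ n : ℕ, ∀ v, (a ^ n) v = (e ^ n) v := by
    intro n
    induction n with
    | zero => intro v; rfl
    | succ n ih => intro v; rw [pow_succ, pow_succ, Module.End.mul_apply, ih]; rfl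
  obtain ⟨N, hN⟩ : ∃ N : Module.End (ZMod p) V, N = a - 1 := ⟨_, rfl⟩
  have hNp : N ^ p = 0 := by
    rw [hN, sub_pow_char_of_commute p (Commute.one_right a), one_pow, sub_eq_zero]
    exact LinearMap.ext fun v => by rw [ha, he]; rfl
  have h1 : finrank (ZMod p) (LinearMap.ker N) = 1 := by
    have hc : Nat.card (LinearMap.ker N) = p :=
      (Nat.card_congr (Equiv.subtypeEquivRight fun v => by
        rw [hN, LinearMap.mem_ker, LinearMap.sub_apply, Module.End.one_apply, sub_eq_zero]; rfl)).trans hfix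
    have h := Module.natCard_eq_pow_finrank (K := ZMod p) (V := LinearMap.ker N)
    rw [hc, Nat.card_zmod] at h
    exact ((Nat.pow_eq_self_iff hp.one_lt).1 h.symm)
  have hker : ∀ n : ℕ, finrank (ZMod p) (LinearMap.ker (N ^ n)) ≤ n := by
    intro n
    induction n with
    | zero => rw [pow_zero, Module.End.one_eq_id, LinearMap.ker_id, finrank_bot]
    | succ n ih =>
      have hr := (N.domRestrict (LinearMap.ker (N ^ (n + 1)))).finrank_range_add_finrank_ker
      have hrange : finrank (ZMod p) (LinearMap.range (N.domRestrict (LinearMap.ker (N ^ (n + 1))))) ≤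
          finrank (ZMod p) (LinearMap.ker (N ^ n)) := by
        refine Submodule.finrank_mono ?_
        rintro _ ⟨⟨v, hv⟩, rfl⟩
        rw [LinearMap.mem_ker, pow_succ, Module.End.mul_apply] at hv
        exact LinearMap.mem_ker.2 hv
      have hkle : finrank (ZMod p) (LinearMap.ker (N.domRestrict (LinearMap.ker (N ^ (n + 1))))) ≤ 1 := by
        rw [← h1, ← Submodule.finrank_map_subtype_eq]
        refine Submodule.finrank_mono ?_
        rintro _ ⟨v, hv, rfl⟩
        exact hv
      omega
  have h := hker p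
  rw [hNp, LinearMap.ker_zero, finrank_top] at h
  exact h

variable {X : Type*} [Group X] [Finite X]

/-- the index of the linear part -/
theorem exists_abelian_index_prime (hX : Odd (Nat.card X)) (ρ : X →* (V ≃ₗ[ZMod p] V)) (hρ : Function.Injective ρ)
    (htr : ∀ v w : V, v ≠ 0 → w ≠ 0 → ∃ g : X, ∃ c : ZMod p, ρ g v = c • w) {σ : X} (hσ : orderOf σ = p)
    (hfix : Nat.card {v : V // ρ σ v = v} = p) :
    ∃ X0 : Subgroup X, X0.Normal ∧ X0.index = p ∧ ∀ a ∈ X0, ∀ b ∈ X0, a * b = b * a := by
  have hp := (Fact.out : p.Prime)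
  have hp2 : p ≠ 2 := fun h => by
    have h2 : 2 ∣ Nat.card X := h ▸ hσ ▸ orderOf_dvd_natCard σ
    exact Nat.not_even_iff_odd.2 hX (even_iff_two_dvd.2 h2)
  haveI : Nontrivial {v : V // ρ σ v = v} := Finite.one_lt_card_iff_nontrivial.1 (by rw [hfix]; exact hp.one_lt)
  haveI : Nontrivial V := (Subtype.val_injective (p := fun v : V => ρ σ v = v)).nontrivial
  haveI : Module.Finite (ZMod p) V := Module.Finite.of_finite
  haveI : Group.IsSolvable X := Cfsg.Agent.S0205.result hX
  haveI : Finite (V ≃ₗ[ZMod p] V) :=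
    Finite.of_injective (fun f => (f : V → V)) DFunLike.coe_injective
  -- adjoin the scalars
  let sc : (ZMod p)ˣ →* (V ≃ₗ[ZMod p] V) :=
    { toFun := fun c => LinearEquiv.smulOfUnit c
      map_one' := LinearEquiv.ext fun v => one_smul _ v
      map_mul' := fun c d => LinearEquiv.ext fun v => mul_smul c d v }
  have hsc : ∀ (x : X) (c : (ZMod p)ˣ), Commute (ρ x) (sc c) := fun x c =>
    LinearEquiv.ext fun v => (ρ x).map_smul (c : ZMod p) v
  obtain ⟨f, hf⟩ : ∃ f : X × (ZMod p)ˣ →* (V ≃ₗ[ZMod p] V), f = ρ.noncommCoprod sc hsc := ⟨_, rfl⟩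
  have hfa : ∀ x c, f (x, c) = ρ x * sc c := fun x c => by rw [hf]; rfl
  let Y := f.range
  let ψ : Y →* (V ≃ₗ[ZMod p] V) := Y.subtype
  have hψ : Function.Injective ψ := Y.subtype_injective
  haveI : Group.IsSolvable Y := Group.isSolvable_of_surjective f.rangeRestrict_surjective
  have htrY : ∀ v w : V, v ≠ 0 → w ≠ 0 → ∃ g : Y, ψ g v = w := by
    intro v w hv hw
    obtain ⟨g, c, hgc⟩ := htr v w hv hw
    have hc : c ≠ 0 := fun h => hv ((ρ g).map_eq_zero_iff.1 (by rw [hgc, h, zero_smul]))
    refine ⟨f.rangeRestrict (g, (Units.mk0 c hc)⁻¹), ?_⟩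
    show f (g, (Units.mk0 c hc)⁻¹) v = w
    rw [hfa, LinearEquiv.mul_apply]
    show ρ g (((Units.mk0 c hc)⁻¹ : (ZMod p)ˣ) • v) = w
    rw [Units.smul_def, map_smul, hgc, smul_smul, Units.val_inv_eq_inv_val, Units.val_mk0, inv_mul_cancel₀ hc,
      one_smul]
  have hYdvd : Nat.card Y ∣ Nat.card X * (p - 1) := by
    have h := Subgroup.card_range_dvd f
    rwa [Nat.card_prod, Nat.card_units, Nat.card_zmod] at h
  have hz := finrank_le_of_fixed_line (ρ σ) (by rw [← map_pow, orderOf_dvd_iff_pow_eq_one.1 (dvd_of_eq hσ), map_one]) hfix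
  have hVp : Nat.card V ≤ p ^ p := by
    rw [Module.natCard_eq_pow_finrank (K := ZMod p), Nat.card_zmod]
    exact Nat.pow_le_pow_right hp.pos hz
  rcases transLinear_cases ψ hψ htrY with ⟨A, hAn, hA, hCA⟩ | ⟨A, N, -, -, -, -, -, -, -, -, h⟩
  swap
  · exfalso
    rcases h with ⟨-, hV2, -, -⟩ | ⟨h3, hV81, -⟩
    · have h1 := (card_sub_one_dvd_of_transitive ψ htrY).trans hYdvd
      rw [hV2, show p ^ 2 - 1 = (p + 1) * (p - 1) from Nat.sq_sub_sq p 1] at h1
      have h2 := Nat.dvd_of_mul_dvd_mul_right (by have := hp.two_le; omega) h1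
      have h4 : 2 ∣ p + 1 := by
        obtain ⟨r, hr⟩ := hp.odd_of_ne_two hp2
        exact ⟨r + 1, by omega⟩
      exact Nat.not_even_iff_odd.2 hX (even_iff_two_dvd.2 (h4.trans h2))
    · rw [h3, hV81] at hVp
      norm_num at hVp
  -- the span of `A` is a field with as many elements as the space
  haveI := hAn
  haveI := finite_moduleEnd (q := p) (V := V)
  have hfld := spanAlg_isField ψ htrY A hA
  haveI : Nontrivial (spanAlg ψ A) := hfld.nontrivial
  haveI : Module.Finite (ZMod p) (spanAlg ψ A) := Module.Finite.of_finite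
  obtain ⟨k, m, hk, hm, hKc, hV, hdA, hdY⟩ := spanAlg_data ψ htrY hψ A hA
  have hm1 : m = 1 := by
    have h1 := card_sub_one_dvd_of_transitive ψ htrY
    rw [hV] at h1
    have hkQ : k < p ^ k := k.lt_two_pow_self.trans_le (Nat.pow_le_pow_left hp.two_le k)
    have h2 := Nat.le_of_dvd (Nat.mul_pos (by omega) (by omega))
      (h1.trans (hdY.trans (Nat.mul_dvd_mul_left k ((Subgroup.card_dvd_of_le hCA).trans hdA))))
    by_contra hne
    have h4 : (p ^ k) ^ 2 ≤ (p ^ k) ^ m := Nat.pow_le_pow_right (by omega) (by omega)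
    nlinarith [Nat.sub_add_cancel (show 1 ≤ p ^ k by omega),
      Nat.sub_add_cancel (show 1 ≤ (p ^ k) ^ m from Nat.one_le_pow _ _ (by omega))]
  have hkp : k ≤ p := by
    rw [hV, hm1, pow_one] at hVp
    exact (Nat.pow_le_pow_iff_right hp.one_lt).1 hVp
  have hfk : finrank (ZMod p) (spanAlg ψ A) = k := by
    have h := Module.natCard_eq_pow_finrank (K := ZMod p) (V := spanAlg ψ A)
    rw [hKc, Nat.card_zmod] at h
    exact (Nat.pow_right_injective hp.two_le h).symm
  -- the action of `X` on this field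
  let j : X →* Y := f.rangeRestrict.comp (MonoidHom.inl X (ZMod p)ˣ)
  have hj : ∀ x, ψ (j x) = ρ x := fun x => by
    show f (x, 1) = ρ x
    rw [hfa, map_one, mul_one]
  have hjinj : Function.Injective j := fun a b e => hρ (by rw [← hj, ← hj, e])
  obtain ⟨τ, hτ⟩ : ∃ τ : X →* (spanAlg ψ A ≃ₐ[ZMod p] spanAlg ψ A), τ = (galHom ψ A).comp j := ⟨_, rfl⟩
  have hker : τ.ker = A.comap j := by
    have hCeq : Subgroup.centralizer (A : Set Y) = A :=
      le_antisymm hCA fun a ha => Subgroup.mem_centralizer_iff.2 fun b hb => hA b hb a ha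
    rw [hτ, ← MonoidHom.comap_ker, (galHom_ker ψ hψ A).1, hCeq]
  -- an element with fixed points is not in the linear part
  have hσ0 : σ ∉ τ.ker := fun hmem => by
    rw [hker, Subgroup.mem_comap] at hmem
    obtain ⟨⟨v, hv⟩, hv0⟩ := exists_ne (⟨0, map_zero _⟩ : {v : V // ρ σ v = v})
    have hv0' : v ≠ 0 := fun h => hv0 (Subtype.ext h)
    let r : spanAlg ψ A := ⟨toEndHom ψ (j σ), toEndHom_mem_spanAlg ψ hmem⟩ - 1
    by_cases hr : r = 0
    · have h1 : toEndHom ψ (j σ) = toEndHom ψ 1 := by
        rw [map_one]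
        exact congrArg Subtype.val (sub_eq_zero.1 hr)
      have h2 := hjinj ((toEndHom_injective hψ h1).trans (map_one j).symm)
      rw [h2, orderOf_one] at hσ
      exact hp.one_lt.ne hσ
    · obtain ⟨r', hr'⟩ := hfld.mul_inv_cancel hr
      rw [hfld.mul_comm] at hr'
      have hrv : (r : Module.End (ZMod p) V) v = 0 := by
        show ψ (j σ) v - v = 0
        rw [hj, hv, sub_self]
      have := LinearMap.congr_fun (congrArg Subtype.val hr') v
      rw [MulMemClass.coe_mul, Module.End.mul_apply, hrv, map_zero, OneMemClass.coe_one, Module.End.one_apply] at this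
      exact hv0' this.symm
  have hidx : τ.ker.index = p := by
    have hdvd : τ.ker.index ∣ k := by
      rw [Subgroup.index_ker, ← hfk, ← card_algEquiv_of_isField (q := p) hfld]
      exact Subgroup.card_subgroup_dvd_card _
    have hpd : p ∣ τ.ker.index := by
      rw [Subgroup.index_ker]
      have ho : orderOf (τ σ) = p := by
        refine ((hp.eq_one_or_self_of_dvd _ ((orderOf_map_dvd τ σ).trans (dvd_of_eq hσ))).resolve_left ?_)
        rw [orderOf_eq_one_iff]
        exact fun h => hσ0 (MonoidHom.mem_ker.2 h)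
      exact (dvd_of_eq ho.symm).trans (Subgroup.orderOf_dvd_natCard _ ⟨σ, rfl⟩)
    have hle := Nat.le_of_dvd (by omega) (hpd.trans hdvd)
    have hkeq : k = p := le_antisymm hkp hle
    exact Nat.dvd_antisymm (hkeq ▸ hdvd) hpd
  refine ⟨τ.ker, inferInstance, hidx, fun a ha b hb => ?_⟩
  rw [hker, Subgroup.mem_comap] at ha hb
  exact hjinj (by rw [map_mul, map_mul, hA _ ha _ hb])

/-- **the core of case beta**: a prime dividing the number of points has a normal Sylow subgroup -/
theorem exists_normal_sylow_of_line_transitive {p : ℕ} [Fact p.Prime] {V : Type*} [AddCommGroup V]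
    [Module (ZMod p) V] [Finite V] {X : Type*} [Group X] [Finite X] (hX : Odd (Nat.card X))
    (ρ : X →* (V ≃ₗ[ZMod p] V)) (hρ : Function.Injective ρ)
    (htr : ∀ v w : V, v ≠ 0 → w ≠ 0 → ∃ g : X, ∃ c : ZMod p, ρ g v = c • w) {σ : X} (hσ : orderOf σ = p)
    (hfix : Nat.card {v : V // ρ σ v = v} = p) {J : Type*} [MulAction X J] [Finite J]
    [MulAction.IsPretransitive X J] (hJ : 1 < Nat.card J) (hpJ : ¬ p ∣ Nat.card J) :
    ∃ s : ℕ, s.Prime ∧ s ∣ Nat.card J ∧ ∃ A : Sylow s X, (A : Subgroup X).Normal := by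
  obtain ⟨X0, hn, hidx, hcomm⟩ := exists_abelian_index_prime hX ρ hρ htr hσ hfix
  obtain ⟨s, hs, hsJ⟩ := Nat.exists_prime_and_dvd (show Nat.card J ≠ 1 by omega)
  haveI := Fact.mk hs
  obtain ⟨A⟩ : Nonempty (Sylow s X) := Sylow.nonempty
  have hle : ∀ B : Sylow s X, (B : Subgroup X) ≤ X0 := by
    intro B x hx
    rw [← QuotientGroup.eq_one_iff, ← orderOf_eq_one_iff]
    obtain ⟨i, hi⟩ := B.2 ⟨x, hx⟩
    have h1 : orderOf (x : X ⧸ X0) ∣ s ^ i := orderOf_dvd_of_pow_eq_one (by
      rw [← QuotientGroup.mk_pow, show x ^ s ^ i = 1 from congrArg Subtype.val hi, QuotientGroup.mk_one])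
    have h2 : orderOf (x : X ⧸ X0) ∣ p := hidx ▸ orderOf_dvd_natCard _
    exact Nat.eq_one_of_dvd_coprimes (((Nat.coprime_primes hs (Fact.out : p.Prime)).2 fun e => hpJ (dvd_trans (dvd_of_eq e.symm) hsJ)).pow_left i) h1 h2
  refine ⟨s, hs, hsJ, A, ⟨fun x hx g => ?_⟩⟩
  have h : g * x * g⁻¹ ∈ ((g • A : Sylow s X) : Subgroup X) := by
    rw [Sylow.coe_subgroup_smul]
    exact Subgroup.smul_mem_pointwise_smul x (MulAut.conj g) _ hx
  -- two Sylow subgroups of the abelian part coincide
  suffices heq : ((g • A : Sylow s X) : Subgroup X) = A by rwa [heq] at h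
  have hnorm : ((g • A : Sylow s X) : Subgroup X) ≤ Subgroup.normalizer ((A : Subgroup X) : Set X) := by
    intro y hy
    refine Subgroup.mem_normalizer_iff.2 fun z => ?_
    have key : ∀ z ∈ (A : Subgroup X), y * z * y⁻¹ = z := fun z hz => by
      rw [hcomm y (hle _ hy) z (hle _ hz), mul_inv_cancel_right]
    refine ⟨fun hz => by rwa [key z hz], fun hz => ?_⟩
    have h2 : y * (y * z * y⁻¹) * y⁻¹ = y * z * y⁻¹ := key _ hz
    rwa [mul_left_cancel (mul_right_cancel h2)] at hz
  have hsup : IsPGroup s (((g • A : Sylow s X) : Subgroup X) ⊔ A : Subgroup X) :=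
    IsPGroup.to_sup_of_normal_right' (g • A).2 A.2 hnorm
  exact ((g • A).3 hsup le_sup_left).symm.trans (A.3 hsup le_sup_right)

end CfsgLib.Bender.End
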