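import Cfsg.Agent.Lib.Bender.End.Congr
import Cfsg.Agent.Lib.Char.Scalar

/-!
# Idempotents of invariant sets of linear characters

For a finite set `Θ` of linear characters of `N ≤ H`, invariant under `H`, the function `linFun Θ` is
an idempotent of the group algebra of `H` invariant under `H`; an irreducible character of `H` is
either fixed or killed by it.
-/

set_option autoImplicit false
set_option linter.unusedSectionVars false

namespace CfsgLib.Bender.End

open Cfsg CfsgLib.Char

universe u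

variable {G : Type u} [Group G] [Fintype G]

open Classical in
/-- The coefficients of the sum of the idempotents of `Θ`. -/
noncomputable def linFun (N : Subgroup G) (Θ : Finset (N →* ℂˣ)) (g : G) : ℂ :=
  if h : g ∈ N then (Nat.card N : ℂ)⁻¹ * ∑ θ ∈ Θ, (((θ ⟨g, h⟩)⁻¹ : ℂˣ) : ℂ) else 0

variable {N : Subgroup G} {Θ : Finset (N →* ℂˣ)}

theorem linFun_of_mem {g : G} (h : g ∈ N) :
    linFun N Θ g = (Nat.card N : ℂ)⁻¹ * ∑ θ ∈ Θ, (((θ ⟨g, h⟩)⁻¹ : ℂˣ) : ℂ) := dif_pos h

theorem linFun_of_notMem {g : G} (h : g ∉ N) : linFun N Θ g = 0 := dif_neg h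

theorem sum_hom_units [Fintype N] (φ : N →* ℂˣ) [Decidable (φ = 1)] :
    ∑ a : N, (φ a : ℂ) = if φ = 1 then (Nat.card N : ℂ) else 0 := by
  split_ifs with h
  · simp [h, Nat.card_eq_fintype_card]
  · obtain ⟨b, hb⟩ : ∃ b, φ b ≠ 1 := by
      by_contra hno
      push Not at hno
      exact h (MonoidHom.ext hno)
    have h1 : (φ b : ℂ) * ∑ a : N, (φ a : ℂ) = ∑ a : N, (φ a : ℂ) := by
      rw [Finset.mul_sum]
      exact Fintype.sum_equiv (Equiv.mulLeft b) _ _ fun a => by simp
    by_contra h0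
    exact hb (Units.ext (by simpa using mul_right_cancel₀ h0 (h1.trans (one_mul _).symm)))

theorem linFun_mul_sum (Θ' : Finset (N →* ℂˣ)) (g : G) [DecidableEq (N →* ℂˣ)] :
    ∑ a : G, linFun N Θ a * linFun N Θ' (a⁻¹ * g) = linFun N (Θ ∩ Θ') g := by
  classical
  haveI := Fintype.ofFinite N
  have hN : (Nat.card N : ℂ) ≠ 0 := by exact_mod_cast Nat.card_pos.ne'
  rw [← Finset.sum_subset (Finset.subset_univ (Finset.univ.filter (fun a : G => a ∈ N)))
    (fun a _ ha => by
      simp only [Finset.mem_filter, Finset.mem_univ, true_and] at ha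
      rw [linFun_of_notMem ha, zero_mul])]
  rw [Finset.sum_subtype (p := fun a => a ∈ N) _ (fun a => by simp)]
  by_cases hg : g ∈ N
  · set g' : N := ⟨g, hg⟩
    calc ∑ a : N, linFun N Θ a * linFun N Θ' ((a : G)⁻¹ * g)
        = ∑ a : N, ∑ θ ∈ Θ, ∑ θ' ∈ Θ', (Nat.card N : ℂ)⁻¹ * (Nat.card N : ℂ)⁻¹ *
            (((θ' g')⁻¹ : ℂˣ) : ℂ) * ((θ⁻¹ * θ' : N →* ℂˣ) a : ℂ) := by
          refine Finset.sum_congr rfl fun a _ => ?_
          rw [linFun_of_mem a.2, linFun_of_mem (N.mul_mem (N.inv_mem a.2) hg)]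
          rw [show (⟨(a : G)⁻¹ * g, N.mul_mem (N.inv_mem a.2) hg⟩ : N) = a⁻¹ * g' from rfl]
          simp only [Finset.mul_sum, Finset.sum_mul]
          rw [Finset.sum_comm]
          refine Finset.sum_congr rfl fun θ _ => Finset.sum_congr rfl fun θ' _ => ?_
          simp [map_mul, map_inv, mul_inv_rev]
          ring
      _ = ∑ θ ∈ Θ, ∑ θ' ∈ Θ', (Nat.card N : ℂ)⁻¹ * (Nat.card N : ℂ)⁻¹ *
            (((θ' g')⁻¹ : ℂˣ) : ℂ) * (if θ = θ' then (Nat.card N : ℂ) else 0) := by
          rw [Finset.sum_comm]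
          refine Finset.sum_congr rfl fun θ _ => ?_
          rw [Finset.sum_comm]
          refine Finset.sum_congr rfl fun θ' _ => ?_
          rw [← Finset.mul_sum, sum_hom_units]
          congr 1
          exact if_congr ⟨fun h => MonoidHom.ext fun a => by simpa [inv_mul_eq_one] using congrArg (fun φ : N →* ℂˣ => φ a) h, fun h => MonoidHom.ext fun a => by simp [h]⟩ rfl rfl
      _ = linFun N (Θ ∩ Θ') g := by
          rw [linFun_of_mem hg]
          simp only [inv_mul_eq_one, mul_ite, mul_zero, Finset.sum_ite_eq, Finset.mul_sum,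
            Finset.sum_ite_mem]
          refine Finset.sum_congr rfl fun θ _ => ?_
          field_simp
          rfl
  · rw [linFun_of_notMem hg]
    refine Finset.sum_eq_zero fun a _ => ?_
    rw [linFun_of_notMem (Θ := Θ') (g := (a : G)⁻¹ * g) fun h => hg (by simpa using N.mul_mem a.2 h),
      mul_zero]

theorem idemFun_linFun {H : Subgroup G} (hNH : N ≤ H)
    (hN : H ≤ Subgroup.normalizer (N : Set G))
    (hΘ : ∀ h ∈ H, ∀ θ ∈ Θ, ∃ θ' ∈ Θ, ∀ (a : N) (ha : h * a * h⁻¹ ∈ N),
      θ' a = θ ⟨h * a * h⁻¹, ha⟩) :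
    IdemFun H (linFun N Θ) := by
  classical
  refine ⟨fun g hg => linFun_of_notMem fun h => hg (hNH h), fun h hh g => ?_, fun g => ?_⟩
  · by_cases hg : g ∈ N
    · have hg' : h * g * h⁻¹ ∈ N := (Subgroup.mem_normalizer_iff.1 (hN hh) g).1 hg
      rw [linFun_of_mem hg, linFun_of_mem hg']
      congr 1
      choose σ hσΘ hσ using fun (θ : N →* ℂˣ) (hθ : θ ∈ Θ) => hΘ h hh θ hθ
      refine Finset.sum_bij σ (fun θ hθ => hσΘ θ hθ) (fun θ hθ θ' hθ' e => ?_) ?_ fun θ hθ => ?_
      · refine MonoidHom.ext fun a => ?_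
        have ha : h⁻¹ * (a : G) * h ∈ N := (Subgroup.mem_normalizer_iff''.1 (hN hh) (a : G)).1 a.2
        have e1 := hσ θ hθ ⟨_, ha⟩ (by simp [mul_assoc])
        have e2 := hσ θ' hθ' ⟨_, ha⟩ (by simp [mul_assoc])
        rw [e] at e1
        have e3 := e1.symm.trans e2
        simpa [mul_assoc] using e3
      · -- injective on a finite set, hence surjective
        intro θ' hθ'
        have hinj : Set.InjOn (fun θ => if hθ : θ ∈ Θ then σ θ hθ else θ) Θ := by
          intro θ hθ θ'' hθ'' e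
          simp only [Finset.mem_coe.1 hθ, Finset.mem_coe.1 hθ'', dite_true] at e
          refine MonoidHom.ext fun a => ?_
          have ha : h⁻¹ * (a : G) * h ∈ N := (Subgroup.mem_normalizer_iff''.1 (hN hh) (a : G)).1 a.2
          have e1 := hσ θ hθ ⟨_, ha⟩ (by simp [mul_assoc])
          have e2 := hσ θ'' hθ'' ⟨_, ha⟩ (by simp [mul_assoc])
          rw [e] at e1
          simpa [mul_assoc] using e1.symm.trans e2
        have himg : Θ.image (fun θ => if hθ : θ ∈ Θ then σ θ hθ else θ) = Θ := by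
          refine Finset.eq_of_subset_of_card_le (fun θ hθ => ?_) (Finset.card_image_of_injOn hinj).ge
          obtain ⟨θ₀, h0, rfl⟩ := Finset.mem_image.1 hθ
          rw [dif_pos h0]
          exact hσΘ θ₀ h0
        obtain ⟨θ, hθ, e⟩ := Finset.mem_image.1 (himg.symm ▸ hθ')
        exact ⟨θ, hθ, by rwa [dif_pos hθ] at e⟩
      · rw [hσ θ hθ ⟨g, hg⟩ hg']
    · rw [linFun_of_notMem hg, linFun_of_notMem]
      exact fun h' => hg ((Subgroup.mem_normalizer_iff.1 (hN hh) g).2 h')
  · rw [linFun_mul_sum, Finset.inter_self]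

/-- An invariant idempotent fixes or kills an irreducible character. -/
theorem proj_dichotomy {c : G → ℂ} (hc : IdemFun (⊤ : Subgroup G) c) {ψ : G → ℂ}
    (hψ : IsIrrCharacter G ψ) :
    (∀ x, proj c ψ x = ψ x) ∨ ∀ x, proj c ψ x = 0 := by
  classical
  obtain ⟨n, ρ, hρ, rfl⟩ := hψ
  set T : (Fin n → ℂ) →ₗ[ℂ] (Fin n → ℂ) := ∑ g : G, c g • ρ g with hT
  have hcomm : ∀ x : G, T * ρ x = ρ x * T := by
    intro x
    simp only [hT, Finset.sum_mul, Finset.mul_sum, smul_mul_assoc, mul_smul_comm, ← map_mul]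
    refine Fintype.sum_equiv (MulAut.conj x⁻¹).toEquiv _ _ fun g => ?_
    simp only [MulEquiv.toEquiv_eq_coe, EquivLike.coe_coe, MulAut.conj_apply,
      hc.inv x⁻¹ trivial g]
    rw [show x * (x⁻¹ * g * x⁻¹⁻¹) = g * x by group]
  obtain ⟨z, hz⟩ := schur_scalar ρ T hcomm
  have hTT : T * T = T := by
    simp only [hT, Finset.sum_mul_sum, smul_mul_assoc, mul_smul_comm, smul_smul, ← map_mul]
    calc ∑ i, ∑ j, (c j * c i) • ρ (i * j) = ∑ i, ∑ g, (c i * c (i⁻¹ * g)) • ρ g := by
          refine Finset.sum_congr rfl fun i _ => Fintype.sum_equiv (Equiv.mulLeft i) _ _ fun j => ?_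
          simp [mul_comm]
      _ = _ := by
          rw [Finset.sum_comm]
          exact Finset.sum_congr rfl fun g _ => by rw [← Finset.sum_smul, hc.idem]
  haveI := nontrivial_of_irreducible ρ
  obtain ⟨v, hv⟩ := exists_ne (0 : Fin n → ℂ)
  have hz2 : z * z = z := by
    have := LinearMap.congr_fun hTT v
    rw [hz] at this
    simp only [Module.End.mul_apply, LinearMap.smul_apply, LinearMap.id_apply, smul_smul] at this
    exact smul_left_injective ℂ hv this
  have hproj : ∀ x, proj c ρ.character x = z * ρ.character x := by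
    intro x
    have e : proj c ρ.character x = LinearMap.trace ℂ _ (T * ρ x) := by
      simp only [hT, Finset.sum_mul, smul_mul_assoc, ← map_mul, map_sum, map_smul, smul_eq_mul, proj]
      rfl
    rw [e, hz, smul_mul_assoc, map_smul, smul_eq_mul]
    rfl
  rcases eq_or_ne z 0 with rfl | hz0
  · exact Or.inr fun x => by rw [hproj, zero_mul]
  · exact Or.inl fun x => by rw [hproj, mul_left_cancel₀ hz0 (hz2.trans (mul_one z).symm), one_mul]

theorem proj_sub (c f g : G → ℂ) (x : G) : proj c (f - g) x = proj c f x - proj c g x := by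
  simp [proj, mul_sub, Finset.sum_sub_distrib]

theorem proj_smul (c f : G → ℂ) (k : ℂ) (x : G) : proj c (k • f) x = k * proj c f x := by
  simp [proj, Finset.mul_sum, mul_left_comm]

/-- For a function supported in `H` the projection can be computed in `H`. -/
theorem proj_subgroup {H : Subgroup G} [Fintype H] {c : G → ℂ} (hc : ∀ g, g ∉ H → c g = 0)
    (f : G → ℂ) (x : H) :
    proj c f (x : G) = proj (fun a : H => c a) (fun a : H => f a) x := by
  classical
  simp only [proj]
  rw [← Finset.sum_subset (Finset.subset_univ (Finset.univ.filter (fun a : G => a ∈ H)))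
    (fun a _ ha => by
      simp only [Finset.mem_filter, Finset.mem_univ, true_and] at ha
      rw [hc a ha, zero_mul])]
  rw [Finset.sum_subtype (p := fun a => a ∈ H) _ (fun a => by simp)]
  rfl

theorem idemFun_restrict {H : Subgroup G} [Fintype H] {c : G → ℂ} (hc : IdemFun H c) :
    IdemFun (⊤ : Subgroup H) (fun a : H => c a) := by
  classical
  refine ⟨fun g hg => absurd (Subgroup.mem_top g) hg, fun k _ g => hc.inv k k.2 g, fun g => ?_⟩
  have h1 := hc.idem (g : G)
  rw [← Finset.sum_subset (Finset.subset_univ (Finset.univ.filter (fun a : G => a ∈ H)))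
    (fun a _ ha => by
      simp only [Finset.mem_filter, Finset.mem_univ, true_and] at ha
      rw [hc.supp a ha, zero_mul])] at h1
  rw [Finset.sum_subtype (p := fun a => a ∈ H) _ (fun a => by simp)] at h1
  simpa using h1

theorem linFun_mem {A : ValuationSubring ℂ} (hA : ((Nat.card N : ℂ))⁻¹ ∈ A) (g : G) :
    linFun N Θ g ∈ A := by
  by_cases hg : g ∈ N
  · rw [linFun_of_mem hg]
    refine mul_mem hA (sum_mem fun θ _ => ?_)
    have h1 : (((θ ⟨g, hg⟩)⁻¹ : ℂˣ) : ℂ) ^ Nat.card N = 1 := by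
      rw [← Units.val_pow_eq_pow_val, ← map_inv, ← map_pow, pow_card_eq_one', map_one, Units.val_one]
    set z : ℂ := (((θ ⟨g, hg⟩)⁻¹ : ℂˣ) : ℂ)
    rcases A.mem_or_inv_mem z with h | h
    · exact h
    · have : z = z⁻¹ ^ (Nat.card N - 1) := by
        rw [inv_pow]
        refine eq_inv_of_mul_eq_one_left ?_
        rw [← pow_succ', Nat.sub_add_cancel Nat.card_pos, h1]
      rw [this]
      exact pow_mem h _
  · rw [linFun_of_notMem hg]
    exact zero_mem A

end CfsgLib.Bender.End
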