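import Cfsg.Agent.Lib.Bender.End.Linear
import Cfsg.Agent.Lib.Char.Orthogonality

/-!
# Characters over an invariant linear character

`Over θ f`: `f (a x) = θ a · f x` for `a` in the domain of the linear character `θ`.
-/

set_option autoImplicit false
set_option linter.unusedSectionVars false

namespace CfsgLib.Bender.End

open Cfsg CfsgLib.Char
open scoped ComplexConjugate

universe u

variable {G : Type u} [Group G]

/-- `f` transforms by `θ` under translations by elements of `N`. -/
def Over {N : Subgroup G} (θ : N →* ℂˣ) (f : G → ℂ) : Prop :=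
  ∀ (a : N) (x : G), f ((a : G) * x) = (θ a : ℂ) * f x

variable {N : Subgroup G} {θ : N →* ℂˣ}

theorem Over.apply {f : G → ℂ} (h : Over θ f) (a : N) : f (a : G) = (θ a : ℂ) * f 1 := by
  simpa using h a 1

theorem Over.sum {ι : Type*} {s : Finset ι} {f : ι → G → ℂ} (h : ∀ i ∈ s, Over θ (f i)) :
    Over θ (∑ i ∈ s, f i) := fun a x => by
  simp only [Finset.sum_apply, Finset.mul_sum]
  exact Finset.sum_congr rfl fun i hi => h i hi a x

theorem Over.smul {f : G → ℂ} (h : Over θ f) (c : ℂ) : Over θ (c • f) := fun a x => by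
  simp only [Pi.smul_apply, smul_eq_mul, h a x]
  ring

variable [Fintype G]

theorem proj_single [Fintype N] (f : G → ℂ) (x : G) :
    proj (linFun N {θ}) f x =
      (Nat.card N : ℂ)⁻¹ * ∑ a : N, (((θ a)⁻¹ : ℂˣ) : ℂ) * f ((a : G) * x) := by
  classical
  simp only [proj]
  rw [← Finset.sum_subset (Finset.subset_univ (Finset.univ.filter (fun a : G => a ∈ N)))
    (fun a _ ha => by
      simp only [Finset.mem_filter, Finset.mem_univ, true_and] at ha
      rw [linFun_of_notMem ha, zero_mul]),
    Finset.sum_subtype (p := fun a => a ∈ N) _ (fun a => by simp), Finset.mul_sum]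
  refine Finset.sum_congr rfl fun a _ => ?_
  rw [linFun_of_mem a.2, Finset.sum_singleton, mul_assoc]

theorem over_iff {f : G → ℂ} : Over θ f ↔ ∀ x, proj (linFun N {θ}) f x = f x := by
  classical
  haveI := Fintype.ofFinite N
  constructor
  · intro h x
    have e : ∀ a : N, (((θ a)⁻¹ : ℂˣ) : ℂ) * f ((a : G) * x) = f x := fun a => by
      rw [h a x, ← mul_assoc, ← Units.val_mul, inv_mul_cancel, Units.val_one, one_mul]
    rw [proj_single, Finset.sum_congr rfl fun a _ => e a, Finset.sum_const, Finset.card_univ,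
      nsmul_eq_mul, ← Nat.card_eq_fintype_card, ← mul_assoc,
      inv_mul_cancel₀ (by exact_mod_cast Nat.card_pos.ne'), one_mul]
  · intro h b x
    rw [← h, ← h x, proj_single, proj_single, ← mul_assoc, mul_comm (θ b : ℂ), mul_assoc]
    congr 1
    rw [Finset.mul_sum]
    refine Fintype.sum_equiv (Equiv.mulRight b) _ _ fun a => ?_
    simp only [Equiv.coe_mulRight, map_mul, mul_inv_rev, Units.val_mul, Subgroup.coe_mul, mul_assoc]
    rw [← mul_assoc (θ b : ℂ), ← Units.val_mul, mul_inv_cancel, Units.val_one, one_mul]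

theorem idemFun_single [hN : N.Normal]
    (hθ : ∀ (g : G) (a : N) (h : g * a * g⁻¹ ∈ N), θ ⟨g * a * g⁻¹, h⟩ = θ a) :
    IdemFun (⊤ : Subgroup G) (linFun N {θ}) :=
  idemFun_linFun le_top (by rw [Subgroup.normalizer_eq_top]) fun h _ θ' hθ' => by
    rw [Finset.mem_singleton] at hθ'
    subst hθ'
    exact ⟨θ', Finset.mem_singleton_self _, fun a ha => (hθ h a ha).symm⟩

theorem over_or_killed [N.Normal]
    (hθ : ∀ (g : G) (a : N) (h : g * a * g⁻¹ ∈ N), θ ⟨g * a * g⁻¹, h⟩ = θ a) {κ : G → ℂ}
    (hκ : IsIrrCharacter G κ) : Over θ κ ∨ ∀ x, proj (linFun N {θ}) κ x = 0 :=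
  (proj_dichotomy (idemFun_single hθ) hκ).imp over_iff.2 id

/-- Functions over `θ` are orthogonal to the functions killed by its idempotent. -/
theorem classInner_eq_zero_of_killed {f κ : G → ℂ} (hf : Over θ f)
    (hκ : ∀ x, proj (linFun N {θ}) κ x = 0) : classInner f κ = 0 := by
  classical
  haveI := Fintype.ofFinite N
  have hN : (Nat.card N : ℂ) ≠ 0 := by exact_mod_cast Nat.card_pos.ne'
  have hcj : ∀ a : N, conj ((θ a : ℂ)) = (((θ a)⁻¹ : ℂˣ) : ℂ) := fun a => by
    rw [Units.val_inv_eq_inv_val]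
    refine conj_eq_inv_of_pow_eq_one (Nat.card_pos (α := N)).ne' ?_
    rw [← Units.val_pow_eq_pow_val, ← map_pow, pow_card_eq_one', map_one, Units.val_one]
  have key : ∀ a : N, ∑ x : G, f x * conj (κ x) =
      ∑ x : G, f x * conj ((((θ a)⁻¹ : ℂˣ) : ℂ) * κ ((a : G) * x)) := fun a => by
    refine (Fintype.sum_equiv (Equiv.mulLeft (a : G)) _ _ fun x => ?_).symm
    rw [Equiv.coe_mulLeft, hf a x, map_mul, ← hcj a, Complex.conj_conj]
    ring
  have h : (Nat.card N : ℂ) * ∑ x : G, f x * conj (κ x) = 0 := by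
    calc (Nat.card N : ℂ) * ∑ x : G, f x * conj (κ x)
        = ∑ a : N, ∑ x : G, f x * conj ((((θ a)⁻¹ : ℂˣ) : ℂ) * κ ((a : G) * x)) := by
          rw [← Finset.sum_congr rfl fun a _ => key a, Finset.sum_const, Finset.card_univ,
            nsmul_eq_mul, Nat.card_eq_fintype_card]
      _ = ∑ x : G, f x * conj ((Nat.card N : ℂ) * proj (linFun N {θ}) κ x) := by
          rw [Finset.sum_comm]
          refine Finset.sum_congr rfl fun x _ => ?_
          rw [proj_single, ← mul_assoc, mul_inv_cancel₀ hN, one_mul, map_sum, Finset.mul_sum]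
      _ = 0 := by simp [hκ]
  rw [classInner, (mul_eq_zero.1 h).resolve_left hN, mul_zero]

theorem over_of_inner_ne_zero [N.Normal]
    (hθ : ∀ (g : G) (a : N) (h : g * a * g⁻¹ ∈ N), θ ⟨g * a * g⁻¹, h⟩ = θ a) {f κ : G → ℂ}
    (hf : Over θ f) (hκ : IsIrrCharacter G κ) (h : classInner f κ ≠ 0) : Over θ κ :=
  (over_or_killed hθ hκ).resolve_right fun h' => h (classInner_eq_zero_of_killed hf h')

open Classical in
/-- The sum of the squares of the degrees over an invariant linear character is its index. -/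
theorem sum_degree_sq_over [N.Normal] [Fintype (IrrCharacter G)]
    (hθ : ∀ (g : G) (a : N) (h : g * a * g⁻¹ ∈ N), θ ⟨g * a * g⁻¹, h⟩ = θ a) :
    ∑ κ : IrrCharacter G, (if Over θ (κ : G → ℂ) then (κ : G → ℂ) 1 ^ 2 else 0) =
      (N.index : ℂ) := by
  haveI := Fintype.ofFinite N
  have h1 : ∀ κ : IrrCharacter G, (if Over θ (κ : G → ℂ) then (κ : G → ℂ) 1 ^ 2 else 0) =
      (κ : G → ℂ) 1 * proj (linFun N {θ}) (κ : G → ℂ) 1 := fun κ => by
    split_ifs with h
    · rw [over_iff.1 h, sq]
    · rw [((over_or_killed hθ κ.2).resolve_left h) 1, mul_zero]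
  rw [Finset.sum_congr rfl fun κ _ => h1 κ]
  simp only [proj, Finset.mul_sum, mul_one]
  rw [Finset.sum_comm]
  have h2 : ∀ a : G, ∑ κ : IrrCharacter G, (κ : G → ℂ) 1 * (linFun N {θ} a * (κ : G → ℂ) a) =
      if a = 1 then linFun N {θ} a * (Nat.card G : ℂ) else 0 := fun a => by
    have h := sum_irr_mul_conj a (1 : G)
    simp only [conj_irr_one] at h
    calc ∑ κ : IrrCharacter G, (κ : G → ℂ) 1 * (linFun N {θ} a * (κ : G → ℂ) a)
        = linFun N {θ} a * ∑ κ : IrrCharacter G, (κ : G → ℂ) a * (κ : G → ℂ) 1 := by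
          rw [Finset.mul_sum]
          exact Finset.sum_congr rfl fun κ _ => by ring
      _ = _ := by
          rw [h]
          have e : IsConj a 1 ↔ a = 1 := isConj_one_left
          split_ifs with h3 h4 h4
          · subst h4
            rw [show Subgroup.centralizer ({1} : Set G) = ⊤ from
              eq_top_iff.2 fun g _ => Subgroup.mem_centralizer_singleton_iff.2 (by simp),
              Subgroup.card_top]
          · exact absurd (e.1 h3) h4
          · exact absurd (e.2 h4) h3
          · simp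
  rw [Finset.sum_congr rfl fun a _ => h2 a, Finset.sum_ite_eq' Finset.univ (1 : G),
    if_pos (Finset.mem_univ _), linFun_of_mem N.one_mem]
  have hN : (Nat.card N : ℂ) ≠ 0 := by exact_mod_cast Nat.card_pos.ne'
  have e : (Nat.card G : ℂ) = (Nat.card N : ℂ) * (N.index : ℂ) := by
    exact_mod_cast N.card_mul_index.symm
  rw [e, Finset.sum_singleton, show (⟨1, N.one_mem⟩ : N) = 1 from rfl]
  simp

end CfsgLib.Bender.End
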