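import Cfsg.Agent.Lib.Bender.End.TI
import Cfsg.Agent.Lib.Bender.End.Linear
import Cfsg.Agent.Lib.Char.NormTwo

/-!
# The two constituents of the induced differences

For pairs `ψ, ψ'` of irreducible characters of `H`, equal outside the elements fixing only the base
coset, `ψ` fixed and `ψ'` killed by an idempotent `c`, the induced difference is `ε (χ - χ')`, where
`χ` is `ε ψ` on the elements of even order. The weighted sums of such families agree.
-/

set_option autoImplicit false
set_option linter.unusedSectionVars false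

namespace CfsgLib.Bender.End

open Cfsg CfsgLib.Char
open scoped ComplexConjugate

universe u

theorem sqFun_sum_irr {G : Type u} [Group G] [Fintype G] {ι : Type*} [Fintype ι] (t : G)
    (χ : ι → IrrCharacter G) (hχ : Function.Injective χ) (a : ι → ℂ) :
    sqFun t (∑ i, a i • (χ i : G → ℂ)) = ∑ i, a i * (χ i : G → ℂ) t ^ 2 / (χ i : G → ℂ) 1 := by
  classical
  have := Fintype.ofFinite (IrrCharacter G)
  have hin : ∀ φ : IrrCharacter G, classInner (∑ i, a i • (χ i : G → ℂ)) (φ : G → ℂ) =
      ∑ i, if χ i = φ then a i else 0 := fun φ => by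
    rw [classInner_sum_left]
    refine Finset.sum_congr rfl fun i _ => ?_
    rw [classInner_smul_left, classInner_irr]
    split_ifs <;> simp
  simp only [sqFun, finsum_eq_sum_of_fintype, hin, Finset.sum_mul, Finset.sum_div, ite_mul, zero_mul,
    ite_div, zero_div]
  rw [Finset.sum_comm]
  exact Finset.sum_congr rfl fun i _ => by simp

theorem classInner_sum_sum_irr {G : Type u} [Group G] [Fintype G] {ι : Type*} [Fintype ι]
    (χ : ι → IrrCharacter G) (hχ : Function.Injective χ) (a b : ι → ℂ) :
    classInner (∑ i, a i • (χ i : G → ℂ)) (∑ i, b i • (χ i : G → ℂ)) = ∑ i, a i * conj (b i) := by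
  classical
  simp only [classInner_sum_left, classInner_sum_right, classInner_smul_left, classInner_smul_right,
    classInner_irr, hχ.eq_iff]
  refine Finset.sum_congr rfl fun i _ => ?_
  simp [mul_comm]

variable {G : Type u} [Group G] [Fintype G] {H : Subgroup G} [Fintype H]

theorem proj_congr_even {c : G → ℂ}
    (hsupp : ∀ a x : H, c (a : G) ≠ 0 → Even (orderOf (x : G)) → Even (orderOf ((a : G) * (x : G))))
    {f g : H → ℂ} (hfg : ∀ x : H, Even (orderOf (x : G)) → f x = g x) {x : H}
    (hx : Even (orderOf (x : G))) :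
    proj (fun a : H => c a) f x = proj (fun a : H => c a) g x := by
  refine Finset.sum_congr rfl fun a _ => ?_
  by_cases ha : c (a : G) = 0
  · simp [ha]
  · rw [hfg (a * x) (hsupp a x ha hx)]

variable {c : G → ℂ}

/-- An irreducible character of `G` is fixed or killed by the idempotent on the elements of even
order of `H`. -/
theorem proj_dichotomy_even (hc : IdemFun H c) {A : ValuationSubring ℂ} (hcA : ∀ g, c g ∈ A)
    (h2 : (2 : A) ∈ IsLocalRing.maximalIdeal A) (hodd : Odd H.index)
    (heven : ∀ h : H, Even (orderOf (h : G)) → OnlyBase H (h : G))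
    {χ : G → ℂ} (hχ : IsIrrCharacter G χ) :
    (∀ x : H, Even (orderOf (x : G)) → proj (fun a : H => c a) (fun a : H => χ a) x = 0) ∨
      ∀ x : H, Even (orderOf (x : G)) → proj (fun a : H => c a) (fun a : H => χ a) x = χ x := by
  classical
  have hfix : ∀ x : H, Even (orderOf (x : G)) → ∀ q : G ⧸ H,
      (x : G) ^ (orderOf (x : G) / 2) • q = q → q = ((1 : G) : G ⧸ H) := fun x hx q hq => by
    refine OnlyBase.fix ?_ q hq
    have h := heven (x ^ (orderOf (x : G) / 2)) ?_
    · simpa using h
    · rw [SubgroupClass.coe_pow]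
      refine even_iff_two_dvd.2 (dvd_of_eq (Eq.symm ?_))
      rw [orderOf_pow_orderOf_div (orderOf_pos _).ne' (even_iff_two_dvd.1 hx)]
  obtain ⟨w, hw⟩ : ∃ w : A, (w : ℂ) = scalarOf H c χ := ⟨⟨_, scalarOf_mem hχ hc hcA⟩, rfl⟩
  by_cases hu : IsUnit (w - 1)
  · refine Or.inl fun x hx => ?_
    rw [← proj_subgroup hc.supp]
    refine proj_eq_zero hχ hc hcA h2 x.2 hx (hfix x hx) fun w' hw' => ?_
    rwa [show w' = w from Subtype.ext (hw'.trans hw.symm)]
  · refine Or.inr fun x hx => ?_
    rw [← proj_subgroup hc.supp]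
    have hA' : ∀ g, (if g = 1 then 1 else 0) - c g ∈ A := fun g => by
      refine sub_mem ?_ (hcA g)
      split_ifs
      exacts [one_mem A, zero_mem A]
    have hs : scalarOf H (fun g => (if g = 1 then 1 else 0) - c g) χ =
        (H.index : ℂ) - scalarOf H c χ := by
      have h0 : χ 1 ≠ 0 := irr_one_ne_zero ⟨χ, hχ⟩
      simp only [scalarOf, proj_compl]
      field_simp
    have h := proj_eq_zero hχ hc.compl hA' h2 x.2 hx (hfix x hx) fun w' hw' => by
      rw [hs, ← hw] at hw'
      have e : w' = (H.index : A) - w := Subtype.ext (by simp [hw'])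
      obtain ⟨k, hk⟩ := hodd
      refine IsLocalRing.notMem_maximalIdeal.1 fun hm => ?_
      have hm1 : w - 1 ∈ IsLocalRing.maximalIdeal A := IsLocalRing.mem_maximalIdeal _ |>.2 hu
      have hm2 := Ideal.add_mem _ hm hm1
      rw [e, hk] at hm2
      push_cast at hm2
      have hm3 : (2 : A) * (k - 1) ∈ IsLocalRing.maximalIdeal A := Ideal.mul_mem_right _ _ h2
      have := Ideal.sub_mem _ hm2 hm3
      rw [show (2 : A) * k + 1 - w - 1 + (w - 1) - 2 * (k - 1) = 1 by ring] at this
      exact (IsLocalRing.maximalIdeal.isMaximal A).ne_top ((Ideal.eq_top_iff_one _).2 this)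
    rw [proj_compl] at h
    exact (sub_eq_zero.1 h).symm

theorem exists_pairs {ι : Type*} [Fintype ι] {t : H} (ht : t * t = 1) (ht1 : t ≠ 1)
    (heven : ∀ h : H, Even (orderOf (h : G)) → OnlyBase H (h : G))
    (hconj : ∀ j : H, IsConj (t : G) j → IsConj t j) (hodd : Odd H.index)
    (hc : IdemFun H c) {A₂ : ValuationSubring ℂ} (hcA : ∀ g, c g ∈ A₂)
    (h2 : (2 : A₂) ∈ IsLocalRing.maximalIdeal A₂)
    (hsupp : ∀ a x : H, c (a : G) ≠ 0 → Even (orderOf (x : G)) → Even (orderOf ((a : G) * (x : G))))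
    (ψ ψ' : ι → IrrCharacter H) (hinj : Function.Injective ψ) (hinj' : Function.Injective ψ')
    (hproj : ∀ i x, proj (fun a : H => c a) (ψ i : H → ℂ) x = (ψ i : H → ℂ) x)
    (hproj' : ∀ i x, proj (fun a : H => c a) (ψ' i : H → ℂ) x = 0)
    (hdeg : ∀ i, (ψ' i : H → ℂ) 1 = (ψ i : H → ℂ) 1)
    (hteq : ∀ i, (ψ' i : H → ℂ) t = (ψ i : H → ℂ) t)
    (hoff : ∀ i (h : H), ¬ OnlyBase H (h : G) → (ψ' i : H → ℂ) h = (ψ i : H → ℂ) h)
    (hne : ∀ i, (ψ i : H → ℂ) t ≠ 0) :
    ∃ (X : ι → ℕ) (ε : ι → ℤ), (∀ i, 0 < X i) ∧ (∀ i, ε i = 1 ∨ ε i = -1) ∧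
      (∑ i, X i ^ 2 ≤ Nat.card G) ∧
      (∀ (i : ι) (A : ValuationSubring ℂ), (∀ g, c g ∈ A) →
        (ε i : ℂ) * (H.index : ℂ) * (ψ i : H → ℂ) 1 / (X i : ℂ) ∈ A) ∧
      ∀ b : ι → ℂ, (∀ h : H, ¬ Even (orderOf (h : G)) → ∑ i, b i * (ψ i : H → ℂ) h = 0) →
        (H.index : ℂ) * ∑ i, b i * (ε i : ℂ) * (ψ i : H → ℂ) t ^ 2 / (X i : ℂ) =
            ∑ i, b i * (ψ i : H → ℂ) t ^ 2 / (ψ i : H → ℂ) 1 ∧
          ∑ i, b i * (ε i : ℂ) * (X i : ℂ) = 0 := by
  classical
  set cH : H → ℂ := fun a => c a with hcH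
  have htG : (t : G) * t = 1 := by exact_mod_cast congrArg Subtype.val ht
  have hte : Even (orderOf (t : G)) := by
    rw [orderOf_eq_prime (p := 2) (by rw [sq, htG]) (fun e => ht1 (Subtype.ext e))]
    exact even_two
  set α : ι → H → ℂ := fun i => (ψ i : H → ℂ) - (ψ' i : H → ℂ) with hα
  have hαS : ∀ i, Supported H (α i) := fun i h hh => by simp [hα, hoff i h hh]
  have hαc : ∀ i, IsClassFunction H (α i) := fun i a b => by
    simp [hα, isClassFunction_irr (ψ i) a b, isClassFunction_irr (ψ' i) a b]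
  have hdiff : ∀ i j, ψ i ≠ ψ' j := fun i j e => by
    have h := hproj i t
    rw [e, hproj' j t] at h
    exact hne i (by rw [e]; exact h.symm)
  have hαn : ∀ i j, classInner (α i) (α j) = if i = j then 2 else 0 := fun i j => by
    simp only [hα, classInner_sub_left, classInner_sub_right, classInner_irr_ne (hdiff i j),
      classInner_irr_ne (hdiff j i).symm, classInner_irr, hinj.eq_iff, hinj'.eq_iff]
    split_ifs <;> norm_num
  -- the two constituents
  have hex : ∀ i, ∃ (χ χ' : IrrCharacter G) (e : ℤ), (e = 1 ∨ e = -1) ∧ χ ≠ χ' ∧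
      indFun H (α i) = (e : ℂ) • ((χ : G → ℂ) - (χ' : G → ℂ)) ∧
      ∀ x : H, Even (orderOf (x : G)) → (χ : G → ℂ) x = (e : ℂ) * (ψ i : H → ℂ) x := by
    intro i
    obtain ⟨μ, ν, hμν, hI⟩ := exists_sub_of_norm_two
      (isGeneralizedCharacter_indFun H (isGeneralizedCharacter_sub
        (isGeneralizedCharacter_of_isCharacter (isCharacter_irr (ψ i)))
        (isGeneralizedCharacter_of_isCharacter (isCharacter_irr (ψ' i)))))
      (show classInner (indFun H (α i)) (indFun H (α i)) = 2 by
        rw [classInner_indFun_supported (α i) (hαc i) (hαS i), hαn, if_pos rfl])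
      (show indFun H (α i) 1 = 0 by simp [indFun_one, hα, hdeg])
    replace hI : indFun H (α i) = (μ : G → ℂ) - (ν : G → ℂ) := hI
    have hres : ∀ x : H, (μ : G → ℂ) x - (ν : G → ℂ) x = (ψ i : H → ℂ) x - (ψ' i : H → ℂ) x := by
      intro x
      have h := res_indFun (hαc i) (hαS i) x
      rw [hI] at h
      simpa [hα] using h
    have hp : ∀ x : H, proj cH (fun a : H => (μ : G → ℂ) a) x -
        proj cH (fun a : H => (ν : G → ℂ) a) x = (ψ i : H → ℂ) x := by
      intro x
      rw [← proj_sub, show (fun a : H => (μ : G → ℂ) a) - (fun a : H => (ν : G → ℂ) a) =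
        (ψ i : H → ℂ) - (ψ' i : H → ℂ) from funext fun a => by simpa using hres a, proj_sub, hproj,
        hproj', sub_zero]
    rcases proj_dichotomy_even hc hcA h2 hodd heven μ.2 with hμ | hμ <;>
      rcases proj_dichotomy_even hc hcA h2 hodd heven ν.2 with hν | hν
    · exfalso
      have h := hp t
      rw [hμ t hte, hν t hte, sub_zero] at h
      exact hne i h.symm
    · refine ⟨ν, μ, -1, Or.inr rfl, hμν.symm, by rw [hI]; simp, fun x hx => ?_⟩
      have h := hp x
      rw [hμ x hx, hν x hx] at h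
      simp [← h]
    · refine ⟨μ, ν, 1, Or.inl rfl, hμν, by rw [hI]; simp, fun x hx => ?_⟩
      have h := hp x
      rw [hμ x hx, hν x hx] at h
      simp [← h]
    · exfalso
      have h := hp t
      rw [hμ t hte, hν t hte, hres] at h
      exact hne i (by rw [← hteq]; simpa using h)
  choose χ χ' e he hχne hI hχe using hex
  have hee : ∀ i, (e i : ℂ) * (e i : ℂ) = 1 := fun i => by rcases he i with h | h <;> simp [h]
  have hec : ∀ i, conj (e i : ℂ) = (e i : ℂ) := fun i => map_intCast _ _
  have hχinj : Function.Injective χ := by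
    intro i j hij
    by_contra hne'
    have h := classInner_indFun_supported (α i) (hαc j) (hαS j)
    rw [hαn, if_neg hne', hI, hI, classInner_smul_left, classInner_smul_right, hec] at h
    have h' : classInner ((χ i : G → ℂ) - (χ' i : G → ℂ)) ((χ j : G → ℂ) - (χ' j : G → ℂ)) = 0 := by
      have he0 : (e i : ℂ) * (e j : ℂ) ≠ 0 :=
        mul_ne_zero (left_ne_zero_of_mul_eq_one (hee i)) (left_ne_zero_of_mul_eq_one (hee j))
      exact (mul_eq_zero.1 ((mul_assoc _ _ _).trans h)).resolve_left he0
    rw [classInner_sub_left, classInner_sub_right, classInner_sub_right, hij,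
      classInner_irr_self, classInner_irr_ne (hχne j),
      classInner_irr_ne (hij ▸ (hχne i).symm), classInner_irr] at h'
    split_ifs at h' <;> norm_num at h'
  have hdeg' : ∀ i, ∃ X : ℕ, 0 < X ∧ (χ i : G → ℂ) 1 = X := fun i => isIrrCharacter_degree (χ i).2
  choose X hX0 hX using hdeg'
  refine ⟨X, e, hX0, he, ?_, fun i A hA => ?_, fun b hb => ?_⟩
  · have := Fintype.ofFinite (IrrCharacter G)
    have h1 : ∀ φ : IrrCharacter G, ∃ d : ℕ, (φ : G → ℂ) 1 = d :=
      fun φ => (isIrrCharacter_degree φ.2).imp fun _ h => h.2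
    choose D hD using h1
    have h2' : ∑ φ : IrrCharacter G, D φ ^ 2 = Nat.card G := by
      have h := sum_degree_sq (G := G)
      simp only [hD] at h
      exact_mod_cast h
    rw [← h2']
    calc ∑ i, X i ^ 2 = ∑ i, D (χ i) ^ 2 := Finset.sum_congr rfl fun i _ => by
          rw [Nat.cast_inj.1 ((hX i).symm.trans (hD (χ i)))]
      _ = ∑ φ ∈ Finset.univ.image χ, D φ ^ 2 := (Finset.sum_image (f := fun φ => D φ ^ 2) fun a _ b _ h => hχinj h).symm
      _ ≤ _ := Finset.sum_le_sum_of_subset (Finset.subset_univ _)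
  · have h1 : indFun H (α i) 1 = 0 := by simp [indFun_one, hα, hdeg]
    have hXX : (χ i : G → ℂ) 1 = (χ' i : G → ℂ) 1 := by
      rw [hI] at h1
      simpa [left_ne_zero_of_mul_eq_one (hee i), sub_eq_zero] using h1
    have hp1 : proj c (χ i : G → ℂ) 1 - proj c (χ' i : G → ℂ) 1 =
        (e i : ℂ) * (ψ i : H → ℂ) 1 := by
      have h3 : proj c (indFun H (α i)) 1 = (ψ i : H → ℂ) 1 := by
        rw [show (1 : G) = ((1 : H) : G) from rfl, proj_subgroup hc.supp,
          show (fun a : H => indFun H (α i) a) = (ψ i : H → ℂ) - (ψ' i : H → ℂ) from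
            funext fun a => res_indFun (hαc i) (hαS i) a, proj_sub, hproj, hproj', sub_zero]
      rw [hI, proj_smul, proj_sub] at h3
      linear_combination (e i : ℂ) * h3 -
        (proj c (χ i : G → ℂ) 1 - proj c (χ' i : G → ℂ) 1) * hee i
    have hy : (e i : ℂ) * (H.index : ℂ) * (ψ i : H → ℂ) 1 / (X i : ℂ) =
        scalarOf H c (χ i : G → ℂ) - scalarOf H c (χ' i : G → ℂ) := by
      simp only [scalarOf, ← hXX, hX]
      rw [← sub_div, ← mul_sub, hp1]
      ring
    rw [hy]
    exact sub_mem (scalarOf_mem (χ i).2 hc hA) (scalarOf_mem (χ' i).2 hc hA)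
  · set β : H → ℂ := ∑ i, b i • (ψ i : H → ℂ) with hβ
    have hβ0 : ∀ h : H, ¬ Even (orderOf (h : G)) → β h = 0 := fun h hh => by
      simp [hβ, Finset.sum_apply, hb h hh]
    have hβc : IsClassFunction H β := fun x y => by
      simp only [hβ, Finset.sum_apply, Pi.smul_apply, isClassFunction_irr (ψ _) x y]
    have hβS : Supported H β := fun h hh => hβ0 h fun he' => hh (heven h he')
    set F : G → ℂ := ∑ i, (b i * (e i : ℂ)) • (χ i : G → ℂ) with hF
    have hcoef : ∀ i, classInner (indFun H β) (χ i : G → ℂ) = b i * (e i : ℂ) := by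
      intro i
      rw [classInner_indFun H β _ (isClassFunction_irr (χ i))]
      have h1 : classInner β (fun h : H => (χ i : G → ℂ) h) =
          classInner β ((e i : ℂ) • (ψ i : H → ℂ)) := by
        simp only [classInner]
        congr 1
        refine Finset.sum_congr rfl fun h _ => ?_
        by_cases hh : Even (orderOf (h : G))
        · rw [hχe i h hh]; simp
        · rw [hβ0 h hh, zero_mul, zero_mul]
      rw [h1, classInner_smul_right, hec, hβ, classInner_sum_left]
      simp [classInner_smul_left, classInner_irr, hinj.eq_iff, mul_comm]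
    have hS : ∀ i, b i * (e i : ℂ) * conj (b i * (e i : ℂ)) = b i * conj (b i) := fun i => by
      rw [map_mul, hec]
      linear_combination b i * conj (b i) * hee i
    have hIF : classInner (indFun H β) F = ∑ i, b i * conj (b i) := by
      rw [hF, classInner_sum_right]
      refine Finset.sum_congr rfl fun i _ => ?_
      rw [classInner_smul_right, hcoef, mul_comm, hS]
    have hzero : indFun H β = F := by
      refine sub_eq_zero.1 (classInner_self_eq_zero ?_)
      rw [classInner_sub_left, classInner_sub_right, classInner_sub_right, hIF,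
        ← classInner_conj (indFun H β) F, hIF, classInner_indFun_supported β hβc hβS, hβ,
        classInner_sum_sum_irr _ hinj, hF, classInner_sum_sum_irr _ hχinj]
      have hS' : ∀ i, conj (b i * conj (b i)) = b i * conj (b i) := fun i => by
        rw [map_mul, Complex.conj_conj, mul_comm]
      simp only [map_sum, hS', hS]
      ring
    refine ⟨?_, ?_⟩
    · have h := index_mul_sqFun ht (heven t hte) hconj hβS
      rw [hzero, hF, sqFun_sum_irr _ _ hχinj, hβ, sqFun_sum_irr _ _ hinj] at h
      rw [← h]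
      congr 1
      refine Finset.sum_congr rfl fun i _ => ?_
      rw [hχe i t hte, hX]
      linear_combination -(b i * (e i : ℂ) * (ψ i : H → ℂ) t ^ 2 / (X i : ℂ)) * hee i
    · have h1 : indFun H β 1 = 0 := by
        rw [indFun_one, hβ0 1 (by simp), mul_zero]
      rw [hzero, hF, Finset.sum_apply] at h1
      simpa [hX] using h1

end CfsgLib.Bender.End
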