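import Cfsg.Agent.Lib.Bender.End.Over
import Cfsg.Agent.Lib.Char.Induction
import Cfsg.Agent.Lib.Coprime.SchurZassenhaus

/-!
# A group with a normal `2`-subgroup of odd index

`T = S T₀` with `S` a normal `2`-group and `T₀` a complement of odd order, `ε` an invariant linear
character of a normal subgroup `E ≤ S`. The characters of `T` over `ε` restricted to `T₀` generate
the same lattice, away from `2`, as all the characters of `T₀` (`integral_of_inner`).
-/

set_option autoImplicit false
set_option linter.unusedSectionVars false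

namespace CfsgLib.Bender.End

open Cfsg CfsgLib.Char Subgroup
open CfsgLib.Coprime (conjBy)
open scoped ComplexConjugate

universe u

variable {T : Type u} [Group T]

/-- `S` is a normal `2`-subgroup with the complement `T₀` of odd order. -/
structure SideData (S T₀ : Subgroup T) : Prop where
  normal : S.Normal
  pgroup : IsPGroup 2 S
  compl : Subgroup.IsComplement' T₀ S
  odd : Odd (Nat.card T₀)

namespace SideData

variable {S T₀ : Subgroup T} (D : SideData S T₀)

/-- The retraction onto the complement. -/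
noncomputable def ret : T →* T₀ :=
  haveI := D.normal
  D.compl.QuotientMulEquiv.toMonoidHom.comp (QuotientGroup.mk' S)

theorem ret_coe (k : T₀) : D.ret (k : T) = k := by
  haveI := D.normal
  exact D.compl.QuotientMulEquiv.apply_symm_apply k

theorem ret_of_mem {s : T} (hs : s ∈ S) : D.ret s = 1 := by
  haveI := D.normal
  show D.compl.QuotientMulEquiv (QuotientGroup.mk' S s) = 1
  rw [show QuotientGroup.mk' S s = 1 from (QuotientGroup.eq_one_iff s).2 hs, map_one]

theorem ret_surjective : Function.Surjective D.ret := fun k => ⟨k, D.ret_coe k⟩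

theorem ret_inv_mul_mem (x : T) : ((D.ret x : T₀) : T)⁻¹ * x ∈ S := by
  haveI := D.normal
  have h : D.ret (((D.ret x : T₀) : T)⁻¹ * x) = 1 := by
    rw [map_mul, map_inv, D.ret_coe, inv_mul_cancel]
  exact (QuotientGroup.eq_one_iff _).1
    (D.compl.QuotientMulEquiv.injective (h.trans (map_one _).symm))

theorem exists_conj_ret [Finite T] {g : T} (hg : Odd (orderOf g)) :
    ∃ x ∈ S, x * g * x⁻¹ = ((D.ret g : T₀) : T) := by
  haveI := D.normal
  set k : T := ((D.ret g : T₀) : T) with hk
  have hSg : ∀ j : ℕ, g ^ j ∈ S → g ^ j = 1 := fun j hj => by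
    rw [← orderOf_eq_one_iff]
    obtain ⟨n, hn⟩ := D.pgroup ⟨_, hj⟩
    have h1 : orderOf (g ^ j) ∣ 2 ^ n :=
      orderOf_dvd_of_pow_eq_one (by simpa using congrArg Subtype.val hn)
    have h2 : orderOf (g ^ j) ∣ orderOf g := orderOf_pow_dvd j
    exact Nat.eq_one_of_dvd_coprimes ((Nat.coprime_two_left.2 hg).pow_left n) h1 h2
  have hord : orderOf k = orderOf g := by
    refine Nat.dvd_antisymm ?_ ?_
    · rw [hk, orderOf_coe]
      exact orderOf_map_dvd D.ret g
    · refine orderOf_dvd_of_pow_eq_one (hSg _ ?_)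
      have h := D.ret_inv_mul_mem (g ^ orderOf k)
      rwa [map_pow, show ((D.ret g ^ orderOf k : T₀) : T) = 1 by
        rw [SubgroupClass.coe_pow, ← hk, pow_orderOf_eq_one], inv_one, one_mul] at h
  haveI : Fact (Nat.Prime 2) := ⟨Nat.prime_two⟩
  haveI := D.pgroup.isNilpotent
  obtain ⟨x, hx, hxB⟩ := CfsgLib.Coprime.sz_conj_in (A := zpowers k) (B := zpowers g) (N := S)
    (by rw [Subgroup.normalizer_eq_top]; exact le_top)
    (by
      obtain ⟨n, hn⟩ := IsPGroup.iff_card.1 D.pgroup
      rw [hn, Nat.card_zpowers, hord]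
      exact (Nat.coprime_two_left.2 hg).pow_left n)
    (by
      rw [zpowers_le]
      have h := mul_mem_sup (mem_zpowers k) (D.ret_inv_mul_mem g)
      rwa [← hk, mul_inv_cancel_left] at h)
    (by rw [Nat.card_zpowers, Nat.card_zpowers, hord])
    (Or.inr inferInstance)
  refine ⟨x, hx, ?_⟩
  have hmem : x * g * x⁻¹ ∈ zpowers k := hxB ▸ CfsgLib.Coprime.conj_mem_conjBy (mem_zpowers g)
  obtain ⟨j, hj⟩ := mem_zpowers_iff.1 hmem
  have h := congrArg (fun z => ((D.ret z : T₀) : T)) hj.symm
  simp only [map_mul, map_inv, D.ret_of_mem hx, one_mul, inv_one, mul_one, map_zpow] at h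
  rw [show D.ret k = D.ret g by rw [hk, D.ret_coe], SubgroupClass.coe_zpow, ← hk] at h
  rw [← hj]
  exact h.symm

theorem apply_ret [Finite T] {f : T → ℂ} (hf : IsClassFunction T f) {g : T} (hg : Odd (orderOf g)) :
    f g = f ((D.ret g : T₀) : T) := by
  obtain ⟨x, -, hx⟩ := D.exists_conj_ret hg
  rw [← hx, hf]

variable [Fintype T] [Fintype T₀]

include D in
/-- The value on `T₀` of the projection of an induced character. -/
theorem proj_indFun {E : Subgroup T} [Fintype E] [E.Normal] (hE : E ≤ S) {ε : E →* ℂˣ}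
    (hε : ∀ (g : T) (a : E) (h : g * a * g⁻¹ ∈ E), ε ⟨g * a * g⁻¹, h⟩ = ε a) (k : T₀) :
    ∃ M : Subgroup T, M ≤ S ∧ ∀ κ : T₀ → ℂ, IsClassFunction T₀ κ →
      proj (linFun E {ε}) (indFun T₀ κ) (k : T) = (Nat.card M : ℂ) / (Nat.card E : ℂ) * κ k := by
  classical
  haveI := D.normal
  let M : Subgroup T :=
    S ⊓ Subgroup.comap (QuotientGroup.mk' E) (Subgroup.centralizer {QuotientGroup.mk' E (k : T)})
  have hM : ∀ s, s ∈ M ↔ s ∈ S ∧ s * k * s⁻¹ * (k : T)⁻¹ ∈ E := by
    intro s
    simp only [M, Subgroup.mem_inf, Subgroup.mem_comap, Subgroup.mem_centralizer_singleton_iff]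
    refine and_congr_right fun _ => ?_
    rw [← QuotientGroup.eq_one_iff]
    simp only [QuotientGroup.mk'_apply, QuotientGroup.mk_mul, QuotientGroup.mk_inv]
    rw [mul_inv_eq_one, mul_inv_eq_iff_eq_mul]
  refine ⟨M, inf_le_left, fun κ hκ => ?_⟩
  -- the translating factor is in the kernel of `ε`
  have heps : ∀ (s : T) (h : s * k * s⁻¹ * (k : T)⁻¹ ∈ E), ε ⟨_, h⟩ = 1 := by
    intro s h
    set e : E := ⟨_, h⟩ with he
    have hind : ∀ j : ℕ, ∃ a : E, ε a = ε e ^ j ∧ ((e : T) * k) ^ j = a * (k : T) ^ j := by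
      intro j
      induction j with
      | zero => exact ⟨1, by simp, by simp⟩
      | succ j ih =>
        obtain ⟨a, ha, hj⟩ := ih
        have hm : (k : T) ^ j * e * ((k : T) ^ j)⁻¹ ∈ E := ‹E.Normal›.conj_mem _ e.2 _
        refine ⟨a * ⟨_, hm⟩, by rw [map_mul, hε _ e hm, ha, pow_succ], ?_⟩
        rw [pow_succ, hj, pow_succ, Subgroup.coe_mul]
        simp [mul_assoc]
    obtain ⟨a, ha, hj⟩ := hind (orderOf k)
    have h1 : ((e : T) * k) ^ orderOf k = 1 := by
      rw [show (e : T) * k = s * k * s⁻¹ by simp [he], conj_pow, ← SubgroupClass.coe_pow,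
        pow_orderOf_eq_one, Subgroup.coe_one, mul_one, mul_inv_cancel]
    rw [h1, ← SubgroupClass.coe_pow, pow_orderOf_eq_one, Subgroup.coe_one, mul_one] at hj
    have ha1 : a = 1 := Subtype.ext hj.symm
    rw [ha1, map_one] at ha
    obtain ⟨n, hn⟩ := D.pgroup ⟨(e : T), hE e.2⟩
    have h2 : ε e ^ 2 ^ n = 1 := by
      rw [← map_pow]
      have : e ^ 2 ^ n = 1 := Subtype.ext (by simpa using congrArg Subtype.val hn)
      rw [this, map_one]
    have hk : Odd (orderOf k) := D.odd.of_dvd_nat (orderOf_dvd_natCard k)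
    exact orderOf_eq_one_iff.1 (Nat.eq_one_of_dvd_coprimes
      ((Nat.coprime_two_left.2 hk).pow_left n) (orderOf_dvd_of_pow_eq_one h2)
      (orderOf_dvd_of_pow_eq_one ha.symm))
  let Φ : S × T₀ ≃ T := Equiv.ofBijective (fun p => (p.1 : T) * (p.2 : T)) D.compl.symm
  haveI : Fintype S := Fintype.ofFinite _
  have hterm : ∀ (e : E) (p : S × T₀),
      (((ε e)⁻¹ : ℂˣ) : ℂ) * extendByZero T₀ κ ((Φ p)⁻¹ * ((e : T) * k) * Φ p) =
        if (p.1 : T) * k * (p.1 : T)⁻¹ * (k : T)⁻¹ = e then κ k else 0 := by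
    intro e p
    obtain ⟨s, k'⟩ := p
    show _ * extendByZero T₀ κ (((s : T) * (k' : T))⁻¹ * ((e : T) * k) * ((s : T) * (k' : T))) = _
    split_ifs with h
    · have hy : ((s : T) * (k' : T))⁻¹ * ((e : T) * k) * ((s : T) * (k' : T)) =
          ((k'⁻¹ * k * k' : T₀) : T) := by
        rw [← h, Subgroup.coe_mul, Subgroup.coe_mul, Subgroup.coe_inv]
        group
      have hκ' : κ (k'⁻¹ * k * k') = κ k := by
        have := hκ k k'⁻¹
        rwa [inv_inv] at this
      have he1 : ε e = 1 := by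
        have := heps (s : T) (by rw [h]; exact e.2)
        simpa only [h] using this
      rw [hy, extendByZero_mem T₀ κ (k'⁻¹ * k * k').2, he1]
      rw [inv_one, Units.val_one, one_mul]
      exact hκ'
    · rw [extendByZero_not_mem, mul_zero]
      intro hy
      have h1 : (s : T)⁻¹ * ((e : T) * k) * s ∈ T₀ := by
        have := T₀.mul_mem (T₀.mul_mem k'.2 hy) (T₀.inv_mem k'.2)
        convert this using 1
        group
      have h2 := D.ret_coe ⟨_, h1⟩
      simp only [map_mul, map_inv, D.ret_of_mem s.2, D.ret_of_mem (hE e.2), inv_one, one_mul,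
        mul_one, D.ret_coe] at h2
      have h3 : (k : T) = (s : T)⁻¹ * ((e : T) * k) * s := congrArg Subtype.val h2
      refine h ?_
      have h4 : (s : T) * k * (s : T)⁻¹ = (e : T) * k := by
        have := congrArg (fun z => (s : T) * z * (s : T)⁻¹) h3
        refine this.trans ?_
        group
      show (s : T) * k * (s : T)⁻¹ * (k : T)⁻¹ = e
      rw [h4, mul_inv_cancel_right]
  have hcount : ∀ p : S × T₀,
      (∑ e : E, if (p.1 : T) * k * (p.1 : T)⁻¹ * (k : T)⁻¹ = e then κ k else 0) =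
        if (p.1 : T) ∈ M then κ k else 0 := by
    intro p
    by_cases h : (p.1 : T) * k * (p.1 : T)⁻¹ * (k : T)⁻¹ ∈ E
    · rw [if_pos ((hM _).2 ⟨p.1.2, h⟩), Finset.sum_eq_single ⟨_, h⟩]
      · simp
      · intro b _ hb
        rw [if_neg]
        exact fun e' => hb (Subtype.ext e'.symm)
      · simp
    · rw [if_neg fun h' => h ((hM _).1 h').2]
      exact Finset.sum_eq_zero fun b _ => if_neg fun e' => h (by rw [e']; exact b.2)
  have hMcard : (Finset.univ.filter fun p : S × T₀ => (p.1 : T) ∈ M).card =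
      Nat.card M * Nat.card T₀ := by
    rw [← Fintype.card_subtype, ← Nat.card_eq_fintype_card, ← Nat.card_prod]
    exact Nat.card_congr
      { toFun := fun p => (⟨p.1.1, p.2⟩, p.1.2)
        invFun := fun q => ⟨(⟨q.1, inf_le_left (a := S) q.1.2⟩, q.2), q.1.2⟩
        left_inv := fun p => rfl
        right_inv := fun q => rfl }
  have hT₀ : (Nat.card T₀ : ℂ) ≠ 0 := by exact_mod_cast Nat.card_pos.ne'
  calc proj (linFun E {ε}) (indFun T₀ κ) (k : T)
      = (Nat.card E : ℂ)⁻¹ * ((Nat.card T₀ : ℂ)⁻¹ * ∑ e : E, ∑ p : S × T₀,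
          (((ε e)⁻¹ : ℂˣ) : ℂ) * extendByZero T₀ κ ((Φ p)⁻¹ * ((e : T) * k) * Φ p)) := by
        rw [proj_single]
        congr 1
        rw [Finset.mul_sum]
        refine Finset.sum_congr rfl fun e _ => ?_
        rw [indFun, mul_left_comm, Finset.mul_sum]
        congr 1
        exact (Fintype.sum_equiv Φ _ _ fun p => rfl).symm
    _ = (Nat.card E : ℂ)⁻¹ * ((Nat.card T₀ : ℂ)⁻¹ * ∑ p : S × T₀,
          if (p.1 : T) ∈ M then κ k else 0) := by
        rw [Finset.sum_comm]
        congr 2
        refine Finset.sum_congr rfl fun p _ => ?_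
        rw [Finset.sum_congr rfl fun e _ => hterm e p, hcount]
    _ = _ := by
        rw [← Finset.sum_filter, Finset.sum_const, nsmul_eq_mul, hMcard]
        push_cast
        field_simp

end SideData

end CfsgLib.Bender.End
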