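import Cfsg.Agent.Lib.Char.ClassMul
import Cfsg.Agent.Lib.Char.Induction
import Cfsg.Agent.Lib.Bender.End.Congr

/-!
# Elements of a subgroup fixing only the base coset

`OnlyBase H h`: `h ∈ H` and `h` fixes no other coset of `H`. Induction of class functions supported
on these elements is an isometry, and the weighted sums `sqFun` of a group and the subgroup agree up
to the index.
-/

set_option autoImplicit false
set_option linter.unusedSectionVars false

namespace CfsgLib.Bender.End

open Cfsg CfsgLib.Char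
open scoped ComplexConjugate

universe u

variable {G : Type u} [Group G] {H : Subgroup G}

/-- `h ∈ H` fixes only the base coset of `H`. -/
def OnlyBase (H : Subgroup G) (h : G) : Prop := h ∈ H ∧ ∀ g : G, g⁻¹ * h * g ∈ H → g ∈ H

theorem OnlyBase.conj {h k : G} (hh : OnlyBase H h) (hk : k ∈ H) : OnlyBase H (k * h * k⁻¹) := by
  refine ⟨H.mul_mem (H.mul_mem hk hh.1) (H.inv_mem hk), fun g hg => ?_⟩
  have h1 := hh.2 (k⁻¹ * g) (by
    rwa [show (k⁻¹ * g)⁻¹ * h * (k⁻¹ * g) = g⁻¹ * (k * h * k⁻¹) * g by group])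
  simpa using H.mul_mem hk h1

theorem OnlyBase.of_pow {h : G} (hh : h ∈ H) {k : ℕ} (hk : OnlyBase H (h ^ k)) : OnlyBase H h := by
  refine ⟨hh, fun g hg => hk.2 g ?_⟩
  have := H.pow_mem hg k
  rwa [show g⁻¹ * h * g = g⁻¹ * h * g⁻¹⁻¹ by rw [inv_inv], conj_pow, inv_inv] at this

theorem OnlyBase.fix {h : G} (hh : OnlyBase H h) (q : G ⧸ H) (hq : h • q = q) :
    q = ((1 : G) : G ⧸ H) := by
  induction q using QuotientGroup.induction_on with
  | H g =>
    rw [MulAction.Quotient.smul_mk, QuotientGroup.eq, smul_eq_mul] at hq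
    have h1 : g⁻¹ * h * g ∈ H := by
      have := H.inv_mem hq
      rwa [mul_inv_rev, inv_inv, ← mul_assoc] at this
    exact QuotientGroup.eq.2 (by simpa using hh.2 g h1)

theorem onlyBase_of_fix {h : G} (hh : h ∈ H)
    (hfix : ∀ q : G ⧸ H, h • q = q → q = ((1 : G) : G ⧸ H)) : OnlyBase H h := by
  refine ⟨hh, fun g hg => ?_⟩
  have := hfix (g : G ⧸ H) (by
    rw [MulAction.Quotient.smul_mk, QuotientGroup.eq, smul_eq_mul]
    simpa [mul_assoc] using H.inv_mem hg)
  simpa [QuotientGroup.eq] using this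

/-- A function on `H` supported on the elements fixing only the base coset. -/
def Supported (H : Subgroup G) (α : H → ℂ) : Prop := ∀ h : H, ¬ OnlyBase H (h : G) → α h = 0

section

variable [Fintype G]

theorem res_indFun {α : H → ℂ} (hc : IsClassFunction H α) (hα : Supported H α) (h : H) :
    indFun H α (h : G) = α h := by
  classical
  have h1 : ∀ x : G, extendByZero H α (x⁻¹ * (h : G) * x) = if x ∈ H then α h else 0 := by
    intro x
    by_cases hy : x⁻¹ * (h : G) * x ∈ H
    · rw [extendByZero_mem H α hy]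
      split_ifs with hx
      · rw [show (⟨x⁻¹ * (h : G) * x, hy⟩ : H) = (⟨x, hx⟩ : H)⁻¹ * h * (⟨x, hx⟩ : H)⁻¹⁻¹ from
          Subtype.ext (by simp), hc]
      · refine hα _ fun hb => hx ?_
        have := hb.2 x⁻¹ (by simp [mul_assoc])
        simpa using this
    · rw [extendByZero_not_mem H α hy, if_neg]
      exact fun hx => hy (H.mul_mem (H.mul_mem (H.inv_mem hx) h.2) hx)
  rw [indFun, Finset.sum_congr rfl fun x _ => h1 x, ← Finset.sum_filter, Finset.sum_const,
    nsmul_eq_mul, ← Fintype.card_subtype, ← Nat.card_eq_fintype_card, ← mul_assoc,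
    inv_mul_cancel₀ (by exact_mod_cast Nat.card_pos.ne'), one_mul]

theorem classInner_indFun_supported [Fintype H] (α : H → ℂ) {β : H → ℂ}
    (hc : IsClassFunction H β) (hβ : Supported H β) :
    classInner (indFun H α) (indFun H β) = classInner α β := by
  rw [classInner_indFun H α _ (isClassFunction_indFun H β)]
  congr 1
  funext h
  exact res_indFun hc hβ h

/-- `∑ (f, χ) χ(t)² / χ(1)`. -/
noncomputable def sqFun (t : G) (f : G → ℂ) : ℂ :=
  ∑ᶠ χ : IrrCharacter G, classInner f (χ : G → ℂ) * (χ : G → ℂ) t ^ 2 / (χ : G → ℂ) 1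

theorem sqFun_eq (t : G) (f : G → ℂ) :
    (Nat.card {x : G // IsConj t x} : ℂ) ^ 2 * sqFun t f = ∑ c : G, f c * (classConst t t c : ℂ) := by
  classical
  have := Fintype.ofFinite (IrrCharacter G)
  simp only [classConst_formula, sqFun, finsum_eq_sum_of_fintype, classInner, Finset.mul_sum,
    Finset.sum_mul, Finset.sum_div]
  rw [Finset.sum_comm]
  refine Finset.sum_congr rfl fun c _ => Finset.sum_congr rfl fun χ _ => ?_
  ring

end

theorem classConst_onlyBase {t : H} (ht : t * t = 1) (hconj : ∀ j : H, IsConj (t : G) j → IsConj t j)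
    {c : H} (hc : OnlyBase H (c : G)) :
    classConst (t : G) (t : G) (c : G) = classConst t t c := by
  have hsq : ∀ a : G, IsConj (t : G) a → a * a = 1 := fun a ha => by
    obtain ⟨k, hk⟩ := isConj_iff.1 ha
    have : (t : G) * t = 1 := by exact_mod_cast congrArg Subtype.val ht
    rw [← hk, show k * (t : G) * k⁻¹ * (k * t * k⁻¹) = k * ((t : G) * t) * k⁻¹ by group, this]
    simp
  have hmap : ∀ a : H, IsConj t a → IsConj (t : G) a := fun a ha =>
    H.subtype.map_isConj ha
  have hmem : ∀ p : G × G, IsConj (t : G) p.1 → IsConj (t : G) p.2 → p.1 * p.2 = c → p.1 ∈ H := by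
    intro p h1 h2 h3
    have hi : p.1⁻¹ = p.1 := inv_eq_of_mul_eq_one_right (hsq _ h1)
    have hj : p.2⁻¹ = p.2 := inv_eq_of_mul_eq_one_right (hsq _ h2)
    have e : p.1⁻¹ * (c : G) * p.1 = (c : G)⁻¹ := by
      rw [← h3, mul_inv_rev, hi, hj, ← mul_assoc, hsq _ h1, one_mul]
    exact hc.2 p.1 (e ▸ H.inv_mem c.2)
  refine (Nat.card_congr
    { toFun := fun p => ⟨((p.1.1 : G), (p.1.2 : G)), hmap _ p.2.1, hmap _ p.2.2.1,
        congrArg Subtype.val p.2.2.2⟩
      invFun := fun p => ⟨(⟨p.1.1, hmem p.1 p.2.1 p.2.2.1 p.2.2.2⟩, ⟨p.1.2, by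
          have h := H.mul_mem (H.inv_mem (hmem p.1 p.2.1 p.2.2.1 p.2.2.2)) c.2
          have e : p.1.1⁻¹ * (c : G) = p.1.2 := inv_mul_eq_iff_eq_mul.2 p.2.2.2.symm
          exact e ▸ h⟩),
        hconj _ p.2.1, hconj _ p.2.2.1, Subtype.ext p.2.2.2⟩
      left_inv := fun p => rfl
      right_inv := fun p => rfl }).symm

/-- The weighted sums of `G` and `H` agree up to the index. -/
theorem index_mul_sqFun [Fintype G] [Fintype H] {t : H} (ht : t * t = 1) (htb : OnlyBase H (t : G))
    (hconj : ∀ j : H, IsConj (t : G) j → IsConj t j) {α : H → ℂ} (hα : Supported H α) :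
    (H.index : ℂ) * sqFun (t : G) (indFun H α) = sqFun t α := by
  classical
  have hcard : Nat.card {x : G // IsConj (t : G) x} = H.index * Nat.card {x : H // IsConj t x} := by
    rw [card_isConj, card_isConj]
    have hle : Subgroup.centralizer ({(t : G)} : Set G) ≤ H := fun g hg => by
      refine htb.2 g ?_
      rw [Subgroup.mem_centralizer_singleton_iff] at hg
      rw [mul_assoc, ← hg, inv_mul_cancel_left]
      exact t.2
    have e : Subgroup.centralizer ({t} : Set H) =
        (Subgroup.centralizer ({(t : G)} : Set G)).subgroupOf H := by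
      ext x
      simp [Subgroup.mem_subgroupOf, Subgroup.mem_centralizer_singleton_iff, Subtype.ext_iff]
    rw [← Subgroup.relIndex_mul_index hle, e, mul_comm]
    rfl
  have h0 : (Nat.card {x : H // IsConj t x} : ℂ) ≠ 0 := by
    have : Nonempty {x : H // IsConj t x} := ⟨⟨t, IsConj.refl t⟩⟩
    exact_mod_cast Nat.card_pos.ne'
  have hcf : IsClassFunction G (fun c : G => (classConst (t : G) (t : G) c : ℂ)) := fun a b => by
    simp [classConst_conj]
  have h1 := sqFun_eq (t : G) (indFun H α)
  have h2 := sqFun_eq t α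
  have h3 := classInner_indFun H α _ hcf
  simp only [classInner, map_natCast] at h3
  have h4 : ∑ h : H, α h * (classConst (t : G) (t : G) (h : G) : ℂ) =
      ∑ h : H, α h * (classConst t t h : ℂ) := by
    refine Finset.sum_congr rfl fun h _ => ?_
    by_cases hb : OnlyBase H (h : G)
    · rw [classConst_onlyBase ht hconj hb]
    · rw [hα h hb, zero_mul, zero_mul]
  rw [h4, ← h1, ← h2, hcard] at h3
  have hGH : (Nat.card G : ℂ) = (Nat.card H : ℂ) * (H.index : ℂ) := by
    exact_mod_cast H.card_mul_index.symm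
  have hH : (Nat.card H : ℂ) ≠ 0 := by exact_mod_cast Nat.card_pos.ne'
  have hn : (H.index : ℂ) ≠ 0 := by exact_mod_cast Subgroup.index_ne_zero_of_finite
  push_cast at h3
  rw [hGH] at h3
  field_simp at h3
  exact h3

end CfsgLib.Bender.End
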