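import Mathlib

/-!
# Valuation rings of the complex numbers over a prime
-/

set_option autoImplicit false

namespace CfsgLib.Bender.End

theorem exists_valuationSubring {p : ℕ} (hp : p.Prime) :
    ∃ A : ValuationSubring ℂ, (p : A) ∈ IsLocalRing.maximalIdeal A := by
  set R : Subring ℂ := (Int.castRingHom ℂ).range with hR
  have hne : Ideal.span {(p : R)} ≠ ⊤ := fun h => by
    obtain ⟨a, ha⟩ := Ideal.mem_span_singleton'.1 ((Ideal.eq_top_iff_one _).1 h)
    obtain ⟨z, hz⟩ := a.2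
    have h1 : ((z * p : ℤ) : ℂ) = ((1 : ℤ) : ℂ) := by
      push_cast
      rw [show (z : ℂ) = (a : ℂ) from hz]
      simpa using congrArg Subtype.val ha
    have h2 : z * p = 1 := by exact_mod_cast h1
    exact hp.ne_one (Nat.dvd_one.1 (Int.natCast_dvd_natCast.1 ⟨z, by push_cast; rw [mul_comm, h2]⟩))
  obtain ⟨A, -, hI⟩ := Ideal.image_subset_nonunits_valuationSubring (Ideal.span {(p : R)}) hne
  refine ⟨A, ValuationSubring.coe_mem_nonunits_iff.1 ?_⟩
  have h := hI ⟨(p : R), Ideal.subset_span rfl, rfl⟩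
  simpa using h

variable {A : ValuationSubring ℂ} {p : ℕ} (hpA : (p : A) ∈ IsLocalRing.maximalIdeal A)
include hpA

theorem inv_notMem (hp : p.Prime) : (p : ℂ)⁻¹ ∉ A := fun h => by
  have h1 : (p : A) * ⟨(p : ℂ)⁻¹, h⟩ = 1 := Subtype.ext (by
    show (p : ℂ) * (p : ℂ)⁻¹ = 1
    exact mul_inv_cancel₀ (by exact_mod_cast hp.ne_zero))
  exact (IsLocalRing.maximalIdeal.isMaximal A).ne_top
    ((Ideal.eq_top_iff_one _).2 (h1 ▸ Ideal.mul_mem_right _ _ hpA))

theorem inv_natCast_mem (hp : p.Prime) {k : ℕ} (hk : ¬ p ∣ k) : (k : ℂ)⁻¹ ∈ A := by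
  have hcop : Nat.Coprime k p := (hp.coprime_iff_not_dvd.2 hk).symm
  have hb := Nat.gcd_eq_gcd_ab k p
  rw [hcop] at hb
  have hu : IsUnit (k : A) := by
    refine IsLocalRing.notMem_maximalIdeal.1 fun hm => ?_
    have h1 : ((Nat.gcdA k p : ℤ) : A) * k + ((Nat.gcdB k p : ℤ) : A) * p = 1 := by
      have := congrArg (fun z : ℤ => (z : A)) hb
      push_cast at this
      rw [this]
      ring
    exact (IsLocalRing.maximalIdeal.isMaximal A).ne_top ((Ideal.eq_top_iff_one _).2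
      (h1 ▸ Ideal.add_mem _ (Ideal.mul_mem_left _ _ hm) (Ideal.mul_mem_left _ _ hpA)))
  obtain ⟨u, hu⟩ := hu
  have h2 : (k : ℂ) * ((u⁻¹ : Aˣ) : A) = 1 := by
    have := congrArg (fun z : A => (z : ℂ)) (u.mul_inv)
    simpa [hu] using this
  rw [inv_eq_of_mul_eq_one_right h2]
  exact ((u⁻¹ : Aˣ) : A).2

theorem eq_zero_of_div_pow_mem (hp : p.Prime) {q : ℚ}
    (h : ∀ i : ℕ, (q : ℂ) / (p : ℂ) ^ i ∈ A) : q = 0 := by
  have hp0 : (p : ℂ) ≠ 0 := by exact_mod_cast hp.ne_zero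
  have hdvd : ∀ i : ℕ, (p : ℤ) ^ i ∣ q.num := by
    intro i
    induction i with
    | zero => simp
    | succ i ih =>
      obtain ⟨a, ha⟩ := ih
      by_contra hcon
      have hpa : ¬ (p : ℤ) ∣ a := fun ⟨b, hb⟩ => hcon ⟨b, by rw [ha, hb]; ring⟩
      have h1 : (a : ℂ) / p ∈ A := by
        have h2 := mul_mem (h (i + 1)) (natCast_mem A q.den)
        have e : (q : ℂ) / (p : ℂ) ^ (i + 1) * (q.den : ℂ) = (a : ℂ) / p := by
          rw [div_mul_eq_mul_div, show (q : ℂ) * (q.den : ℂ) = (q.num : ℂ) by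
            exact_mod_cast q.mul_den_eq_num, ha]
          push_cast
          field_simp
          ring
        rwa [e] at h2
      obtain ⟨x, y, hxy⟩ := ((Nat.prime_iff_prime_int.1 hp).coprime_iff_not_dvd.2 hpa).symm
      refine inv_notMem hpA hp ?_
      have e : (p : ℂ)⁻¹ = (x : ℂ) * ((a : ℂ) / p) + (y : ℂ) := by
        have h3 : (x : ℂ) * a + (y : ℂ) * p = 1 := by exact_mod_cast hxy
        field_simp
        linear_combination -h3
      rw [e]
      exact add_mem (mul_mem (intCast_mem A x) h1) (intCast_mem A y)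
  by_contra hq
  have hne : q.num ≠ 0 := Rat.num_ne_zero.2 hq
  have h1 := Int.natAbs_dvd_natAbs.2 (hdvd q.num.natAbs)
  rw [Int.natAbs_pow, Int.natAbs_natCast] at h1
  have := Nat.le_of_dvd (Int.natAbs_pos.2 hne) h1
  have := q.num.natAbs.lt_pow_self hp.one_lt
  omega

end CfsgLib.Bender.End
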